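import Cfsg.Agent.Lib.Char.CyclicGlauberman
import Cfsg.Agent.Lib.Char.Glauberman
import Cfsg.Agent.Lib.Char.GlaubermanSolvable
import Cfsg.Agent.Lib.Block.ClassMul
import Cfsg.Agent.Lib.Invol.DegreeModP

/-!
# Values on the coset of an operator and invariant characters
-/

open scoped ComplexConjugate Pointwise

set_option linter.unusedSectionVars false
set_option linter.style.haveILetI false

namespace Cfsg.Agent.ExtClosedP

open Cfsg Cfsg.Agent.Block Cfsg.Agent.Char

universe u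

variable {G : Type u} [Group G] [Finite G]

/-- On the coset `C_T(e) e` an extension with small determinantal order is a multiple of an
irreducible character of `C_T(e)`. -/
theorem exists_coset_char (T : Subgroup G) [T.Normal] (e : G)
    (hcop : (Nat.card T).Coprime (orderOf e)) {χ : G → ℂ} (hχ : IsIrrCharacter G χ)
    (hres : IsIrrCharacter T (fun t : T => χ t)) (hdet : detOrder χ ∣ Nat.card T) :
    ∃ (β : IrrCharacter ↥(T ⊓ Subgroup.centralizer ({e} : Set G))) (ε : ℂ),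
      ∀ c : ↥(T ⊓ Subgroup.centralizer ({e} : Set G)),
        χ ((c : G) * e) = ε * (β : _ → ℂ) c := by
  classical
  set Γ := T ⊔ Subgroup.zpowers e with hΓ
  have hTΓ : T ≤ Γ := le_sup_left
  have heΓ : e ∈ Γ := Subgroup.mem_sup_right (Subgroup.mem_zpowers e)
  set L := T ⊓ Subgroup.centralizer ({e} : Set G) with hL
  have hLΓ : L ≤ Γ := inf_le_left.trans hTΓ
  set s : Γ := ⟨e, heΓ⟩ with hs
  set T' := T.subgroupOf Γ with hT'
  set C' := L.subgroupOf Γ with hC'
  cases nonempty_fintype Γ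
  cases nonempty_fintype T'
  cases nonempty_fintype C'
  have hcT : Nat.card T' = Nat.card T := Nat.card_congr (Subgroup.subgroupOfEquivOfLe hTΓ).toEquiv
  have hos : orderOf s = orderOf e := Subgroup.orderOf_mk e heΓ
  have hdec : ∀ x : Γ, ∃ i : ℕ, x * (s ^ i)⁻¹ ∈ T' := fun x => by
    obtain ⟨t, ht, u, hu, hx⟩ : ∃ t ∈ T, ∃ u ∈ Subgroup.zpowers e, (x : G) = t * u := by
      have h1 : (x : G) ∈ (T : Set G) * (Subgroup.zpowers e : Set G) := by
        rw [← Subgroup.normal_mul]; exact x.2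
      obtain ⟨t, ht, u, hu, h⟩ := h1
      exact ⟨t, ht, u, hu, h.symm⟩
    obtain ⟨i, rfl⟩ := mem_powers_iff_mem_zpowers.2 hu
    refine ⟨i, ?_⟩
    rw [hT', Subgroup.mem_subgroupOf]
    simp only [Subgroup.coe_mul, Subgroup.coe_inv, SubmonoidClass.coe_pow, hs, hx,
      mul_inv_cancel_right]
    exact ht
  have hidx : T'.index = orderOf s := by
    have hc : Subgroup.IsComplement' T' (Subgroup.zpowers s) := by
      refine Subgroup.isComplement'_of_disjoint_and_mul_eq_univ ?_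
        (Set.eq_univ_of_forall fun x => ?_)
      · rw [disjoint_iff]
        exact disjoint_iff.1 (Subgroup.disjoint_of_coprime_natCard (by rw [hcT, Nat.card_zpowers, hos]; exact hcop))
      · obtain ⟨i, hi⟩ := hdec x
        exact ⟨_, hi, s ^ i, Subgroup.npow_mem_zpowers s i, by simp⟩
    rw [hc.symm.index_eq_card, Nat.card_zpowers]
  have hsetup : CycGlaub.Setup T' s C' :=
    ⟨by rw [hcT, hos]; exact hcop, hidx, hdec, fun x => by
      simp [hC', hL, hT', Subgroup.mem_subgroupOf, Subgroup.mem_centralizer_singleton_iff,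
        Subtype.ext_iff, hs]⟩
  have hresT' : IsIrrCharacter T' (fun t : T' => χ ((t : Γ) : G)) :=
    IsIrr.comp_mulEquiv (Subgroup.subgroupOfEquivOfLe hTΓ) hres
  have hψ : IsIrrCharacter Γ (fun x : Γ => χ x) := by
    refine Invol.DegMod.irr_of_res_irr T' (IsChar.res (IsIrr.isCharacter hχ) Γ) hresT'
  have hdet' : (detOrder (fun x : Γ => χ x)).Coprime (orderOf s) := by
    rw [hos]
    refine Nat.Coprime.coprime_dvd_left (dvd_trans ?_ hdet) hcop
    refine orderOf_dvd_of_pow_eq_one (funext fun x => ?_)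
    have h1 : detChar (fun x : Γ => χ x) x = detChar χ x :=
      detChar_comp hχ Γ.subtype hψ (fun _ => rfl) x
    rw [Pi.pow_apply, h1, Pi.one_apply]
    exact congrFun (pow_orderOf_eq_one (detChar χ)) (x : G)
  obtain ⟨β, ε, -, hval, -⟩ := hsetup.exists_sign ⟨_, hψ⟩ hresT' hdet'
  refine ⟨⟨_, IsIrr.comp_mulEquiv (Subgroup.subgroupOfEquivOfLe hLΓ).symm β.2⟩, (ε : ℂ),
    fun c => ?_⟩
  have := hval 1 (Nat.coprime_one_left _) ((Subgroup.subgroupOfEquivOfLe hLΓ).symm c)
  simpa [hs] using this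

variable {p : ℕ} [hp : Fact p.Prime] {M : Ideal AlgInt} {H : Subgroup G}

/-- A `p`-group acting without fixed points on a subgroup: a sum of an invariant function reduces to
its value at the identity. -/
theorem sum_congr_one (hM : IsPModular p M) (hHp : IsPGroup p H) {K : Subgroup G} [Fintype K]
    (hK : H ≤ Subgroup.normalizer (K : Set G))
    (hfix : K ⊓ Subgroup.centralizer (H : Set G) = ⊥) {F : K → ℂ} (hr : ∀ k, MemLocalRing M (F k))
    (hF : ∀ a ∈ H, ∀ k k' : K, (k' : G) = a * k * a⁻¹ → F k' = F k) :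
    MemLocalIdeal M (∑ k : K, F k - F 1) := by
  classical
  have hn : ∀ s ∈ H, ∀ g ∈ K, s * g * s⁻¹ ∈ K := fun s hs g hg =>
    (Subgroup.mem_normalizer_iff.1 (hK hs) g).1 hg
  set A := (Glaub.conjHom K H hn).range with hA
  have hAp : IsPGroup p A := hHp.of_surjective _ (MonoidHom.rangeRestrict_surjective _)
  have hfix' : ∀ c : Glaub.fix A, c = 1 := by
    rintro ⟨c, hc⟩
    refine Subtype.ext (Subtype.ext ?_)
    show (c : G) = 1
    rw [← Subgroup.mem_bot, ← hfix]
    refine ⟨c.2, Subgroup.mem_centralizer_iff.2 fun a ha => ?_⟩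
    have h1 := congrArg Subtype.val (hc _ ⟨⟨a, ha⟩, rfl⟩)
    change a * (c : G) * a⁻¹ = c at h1
    exact mul_inv_eq_iff_eq_mul.1 h1
  haveI := Fintype.ofFinite (Glaub.fix A)
  have h := Glaub.sum_congr_fix hM hAp hr ((Glaub.inv_conjHom_iff K H hn F).2 hF)
  rwa [Fintype.sum_eq_single (1 : Glaub.fix A) fun c hc => absurd (hfix' c) hc,
    OneMemClass.coe_one] at h

/-- A `p`-group with a nontrivial fixed point on a `p'`-subgroup fixes a nontrivial irreducible
character. -/
theorem exists_invariant_irr (hM : IsPModular p M) (hHp : IsPGroup p H) {T : Subgroup G}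
    (hT : H ≤ Subgroup.normalizer (T : Set G)) (hTp : ¬ p ∣ Nat.card T)
    (hfix : T ⊓ Subgroup.centralizer (H : Set G) ≠ ⊥) :
    ∃ θ : IrrCharacter T, (θ : T → ℂ) ≠ (fun _ => 1) ∧
      ∀ a ∈ H, ∀ t t' : T, (t' : G) = a * t * a⁻¹ → (θ : T → ℂ) t' = (θ : T → ℂ) t := by
  classical
  cases nonempty_fintype T
  have hn : ∀ s ∈ H, ∀ g ∈ T, s * g * s⁻¹ ∈ T := fun s hs g hg =>
    (Subgroup.mem_normalizer_iff.1 (hT hs) g).1 hg
  set A := (Glaub.conjHom T H hn).range with hA
  have hAp : IsPGroup p A := hHp.of_surjective _ (MonoidHom.rangeRestrict_surjective _)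
  haveI := Fintype.ofFinite (Glaub.fix A)
  have hcop : Nat.Coprime (Nat.card T) p := (hp.out.coprime_iff_not_dvd.2 hTp).symm
  obtain ⟨⟨x, hxT, hxH⟩, hx1'⟩ := (Subgroup.ne_bot_iff_exists_ne_one).1 hfix
  have hx1 : x ≠ 1 := fun h => hx1' (Subtype.ext h)
  have hxf : (⟨x, hxT⟩ : T) ∈ Glaub.fix A := by
    rintro _ ⟨a, rfl⟩
    refine Subtype.ext ?_
    show (a : G) * x * (a : G)⁻¹ = x
    rw [Subgroup.mem_centralizer_iff.1 hxH a a.2, mul_inv_cancel_right]
  obtain ⟨β, hβ⟩ : ∃ β : IrrCharacter (Glaub.fix A), β ≠ trivialIrr (Glaub.fix A) := by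
    by_contra hn1
    push Not at hn1
    have h1 : IsConj (⟨⟨x, hxT⟩, hxf⟩ : Glaub.fix A) 1 :=
      (isConj_iff_irr _ _).2 fun ψ => by rw [hn1 ψ]; rfl
    have h2 : (⟨⟨x, hxT⟩, hxf⟩ : Glaub.fix A) = 1 := isConj_one_left.1 h1
    exact hx1 (congrArg (fun c : Glaub.fix A => ((c : T) : G)) h2)
  by_contra hall
  push Not at hall
  obtain ⟨χ, hχ, hc⟩ := Glaub.surj_corr hM hAp hcop β
  obtain ⟨χ', hχ', hc'⟩ := Glaub.surj_corr hM hAp hcop (trivialIrr (Glaub.fix A))
  have key : ∀ ψ : IrrCharacter T, Glaub.Inv A (ψ : T → ℂ) → (ψ : T → ℂ) = fun _ => 1 := by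
    intro ψ hψ
    by_contra hne
    obtain ⟨a, ha, t, t', e, he⟩ := hall ψ hne
    exact he ((Glaub.inv_conjHom_iff T H hn _).1 hψ a ha t t' e)
  have hxx : χ = χ' := Subtype.ext ((key χ hχ).trans (key χ' hχ').symm)
  exact hβ (Glaub.corr_unique hM hAp hcop hχ hc (hxx ▸ hc'))

end Cfsg.Agent.ExtClosedP
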