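import Cfsg.Agent.Lib.Invol.ExtClosedOdd.Pair
import Cfsg.Agent.Lib.Invol.ExtClosedOdd.Coset
import Cfsg.Agent.Lib.Grp.Coprime
import Cfsg.Agent.Lib.Char.ModP
import Cfsg.Agent.Lib.Char.Kernel
import Cfsg.Agent.Lib.Block.SuzukiIdentity

/-!
# The commutator of a p'-subgroup with an extremely closed abelian p-subgroup has no fixed points
-/

open scoped ComplexConjugate Pointwise commutatorElement

set_option linter.unusedSectionVars false
set_option linter.style.haveILetI false

namespace Cfsg.Agent.ExtClosedP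

open Cfsg Cfsg.Agent.Block Cfsg.Agent.Char

universe u

/-- The multiplicative step: a character value with `φ(a^2) = φ(a)^2` along an element of odd order
has norm zero or one. -/
theorem norm_eq_one_of_sq {G : Type u} [Group G] {a : G} (hodd : Odd (orderOf a)) (φ : G → ℂ)
    (h : ∀ j : ℕ, φ ((a ^ 2 ^ j) ^ 2) = φ (a ^ 2 ^ j) ^ 2) (h0 : φ a ≠ 0) : ‖φ a‖ = 1 := by
  have hpow : ∀ j : ℕ, φ (a ^ 2 ^ j) = φ a ^ 2 ^ j := by
    intro j
    induction j with
    | zero => simp
    | succ j ih => rw [pow_succ, pow_mul, h j, ih, pow_mul]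
  set N := Nat.totient (orderOf a) with hN
  have hN0 : 0 < N := Nat.totient_pos.2 hodd.pos
  have h2 : a ^ 2 ^ N = a := by
    conv_rhs => rw [← pow_one a]
    exact pow_eq_pow_iff_modEq.2 (Nat.ModEq.pow_totient hodd.coprime_two_left)
  have h3 : ‖φ a‖ ^ (2 ^ N - 1) * ‖φ a‖ = 1 * ‖φ a‖ := by
    rw [← pow_succ, Nat.sub_add_cancel Nat.one_le_two_pow, one_mul, ← norm_pow, ← hpow, h2]
  have h4 := mul_right_cancel₀ (norm_ne_zero_iff.2 h0) h3
  refine (pow_eq_one_iff_of_nonneg (norm_nonneg _) ?_).1 h4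
  have : 2 ≤ 2 ^ N := le_self_pow₀ (by norm_num) hN0.ne'
  omega

variable {p : ℕ} [hp : Fact p.Prime]

section Step

variable {G : Type u} [Group G] [Finite G] {M : Ideal AlgInt} {H T : Subgroup G} [T.Normal]
  {χ : G → ℂ}

/-- Off the fixed subgroup of `e`, the extension does not see the `p'`-cores of the pairs. -/
theorem value_core (hM : IsPModular p M) (hHp : IsPGroup p H) (hab : IsMulCommutative H)
    (hcl : IsExtremelyClosed H) (hTp : ¬ p ∣ Nat.card T) (hχ : IsIrrCharacter G χ)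
    (hres : IsIrrCharacter T (fun t : T => χ t)) (hdet : detOrder χ ∣ Nat.card T)
    (ih : ∀ L : Subgroup G, L < T → H ≤ Subgroup.normalizer (L : Set G) →
      ⁅L, H⁆ ⊓ Subgroup.centralizer (H : Set G) = ⊥)
    {e : G} (heH : e ∈ H) (he : ¬ T ≤ Subgroup.centralizer ({e} : Set G))
    {g : G} (hg : g ∈ T) {k : G} (hk : k ∈ core p H g) : χ (k * e) = χ e := by
  classical
  obtain ⟨k₁, -, c, hc, hce, hconj⟩ := exists_conj_comm hHp hab hcl hk heH
  rw [← IsIrr.classFun hχ (k * e) k₁, hconj, show e * c = c * e from hce.eq.symm]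
  set L := T ⊓ Subgroup.centralizer ({e} : Set G) with hL
  cases nonempty_fintype G
  have hcom : ∀ a ∈ H, ∀ b ∈ H, a * b = b * a := fun a ha b hb =>
    congrArg Subtype.val (hab.is_comm.comm (⟨a, ha⟩ : H) ⟨b, hb⟩)
  have hHT : H ≤ Subgroup.normalizer (T : Set G) := by
    rw [Subgroup.normalizer_eq_top]; exact le_top
  have hLlt : L < T := lt_of_le_of_ne inf_le_left fun h => he (inf_eq_left.1 h)
  have hHC : H ≤ Subgroup.centralizer ({e} : Set G) := fun a ha =>
    Subgroup.mem_centralizer_singleton_iff.2 (hcom a ha e heH)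
  have hHL : H ≤ Subgroup.normalizer (L : Set G) := fun a ha =>
    BS.mem_normalizer_of_conj_le fun w hw =>
      ⟨(inferInstance : T.Normal).conj_mem w hw.1 a,
        Subgroup.mul_mem _ (Subgroup.mul_mem _ (hHC ha) hw.2) (Subgroup.inv_mem _ (hHC ha))⟩
  set D := ⁅L, H⁆ with hD
  have hfix := ih L hLlt hHL
  have hDL : D ≤ L := Grp.commutator_le_left_of_le_normalizer hHL
  have hLD : L ≤ Subgroup.normalizer (D : Set G) := Grp.left_le_normalizer_commutator H L
  have hHD : H ≤ Subgroup.normalizer (D : Set G) := Grp.right_le_normalizer_commutator H L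
  have hDp : ¬ p ∣ Nat.card D := fun h =>
    hTp (h.trans (Subgroup.card_dvd_of_le (hDL.trans inf_le_left)))
  have hcL : c ∈ L := ⟨core_le_of_mem hHp hab hcl hHT hTp hg hc,
    Subgroup.mem_centralizer_singleton_iff.2 hce.eq⟩
  have hcD : c ∈ D := mem_of_conj_le hHp hab hcl hc hHD hDp fun a ha => by
    rw [show c * a * c⁻¹ = ⁅c, a⁆ * a by rw [commutatorElement_def]; group]
    exact mul_mem (Subgroup.mem_sup_right (Subgroup.commutator_mem_commutator hcL ha))
      (Subgroup.mem_sup_left ha)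
  have hcop : (Nat.card T).Coprime (orderOf e) := by
    obtain ⟨i, hi⟩ := pPow_of_mem hHp heH
    rw [hi]
    exact ((hp.out.coprime_iff_not_dvd.2 hTp).symm).pow_right i
  obtain ⟨β, ε, hβ⟩ := exists_coset_char T e hcop hχ hres hdet
  by_cases hε : ε = 0
  · have h1 := hβ ⟨c, hcL⟩
    have h2 := hβ 1
    rw [hε, zero_mul] at h1 h2
    rw [OneMemClass.coe_one, one_mul] at h2
    rw [show χ (c * e) = 0 from h1, h2]
  have hinv : ∀ a ∈ H, ∀ l l' : L, (l' : G) = a * l * a⁻¹ → (β : L → ℂ) l' = (β : L → ℂ) l := by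
    intro a ha l l' hll
    refine mul_left_cancel₀ hε ?_
    rw [← hβ, ← hβ, hll, show a * (l : G) * a⁻¹ * e = a * ((l : G) * e) * a⁻¹ by
      rw [mul_assoc (a * (l : G)) a⁻¹ e, show a⁻¹ * e = e * a⁻¹ from
        hcom a⁻¹ (inv_mem ha) e heH]; group]
    exact IsIrr.classFun hχ _ _
  cases nonempty_fintype D
  cases nonempty_fintype L
  let ι : D → L := fun d => ⟨(d : G), hDL d.2⟩
  have hS : ∑ d : D, (β : L → ℂ) (ι d) ≠ 0 := by
    intro h0
    have h1 := sum_congr_one hM hHp hHD hfix (F := fun d : D => (β : L → ℂ) (ι d))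
      (fun d => irr_ring hM β _) (fun a ha d d' hdd => hinv a ha (ι d) (ι d') hdd)
    rw [h0, zero_sub, show ι 1 = 1 from rfl, charDeg_spec'] at h1
    have h2 := (ideal_natCast_iff hM _).1 (by simpa using ideal_neg h1)
    exact hTp (h2.trans ((charDeg_dvd β).trans (Subgroup.card_dvd_of_le inf_le_left)))
  set D' := D.subgroupOf L with hD'
  haveI : D'.Normal := Subgroup.normal_subgroupOf_of_le_normalizer hLD
  let f : L → ℂ := fun l => if l ∈ D' then 1 else 0
  have hf : IsClassFunction L f := fun x y => by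
    have h : y * x * y⁻¹ ∈ D' ↔ x ∈ D' := by
      rw [Subgroup.Normal.mem_comm_iff (inferInstance : D'.Normal), inv_mul_cancel_left]
    simp only [f, h]
  have hsum : ∀ l₀ : L, ∑ l : L, f l * (β : L → ℂ) (l * l₀) =
      ∑ d : D, (β : L → ℂ) (ι d * l₀) := by
    intro l₀
    simp only [f, ite_mul, one_mul, zero_mul, ← Finset.sum_filter]
    refine (Finset.sum_bij (fun d _ => ι d) (fun d _ => ?_) (fun a _ b _ h => ?_) (fun l hl => ?_)
      fun d _ => rfl).symm
    · exact Finset.mem_filter.2 ⟨Finset.mem_univ _, d.2⟩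
    · exact Subtype.ext (congrArg (fun x : L => (x : G)) h)
    · exact ⟨⟨(l : G), (Finset.mem_filter.1 hl).2⟩, Finset.mem_univ _, rfl⟩
  have hker : (β : L → ℂ) (ι ⟨c, hcD⟩) = (β : L → ℂ) 1 := by
    have h1 := Char.sum_classFun_mul_apply β.2 hf (ι ⟨c, hcD⟩)
    have h2 := hsum 1
    simp only [mul_one] at h2
    rw [hsum, h2] at h1
    have h3 : ∑ d : D, (β : L → ℂ) (ι d * ι ⟨c, hcD⟩) = ∑ d : D, (β : L → ℂ) (ι d) :=
      Fintype.sum_equiv (Equiv.mulRight ⟨c, hcD⟩) _ _ fun d => rfl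
    rw [h3, div_mul_eq_mul_div, eq_div_iff (irr_one_ne_zero β)] at h1
    exact (mul_left_cancel₀ hS h1).symm
  rw [show χ (c * e) = ε * (β : L → ℂ) (ι ⟨c, hcD⟩) from hβ ⟨c, hcL⟩, hker, ← hβ 1,
    OneMemClass.coe_one, one_mul]

/-- An element not centralizing `T` acts by scalars, so its commutators lie in the kernel. -/
theorem commutator_mem_ker (hp2 : p ≠ 2) (hM : IsPModular p M) (hHp : IsPGroup p H)
    (hab : IsMulCommutative H) (hcl : IsExtremelyClosed H) (hTp : ¬ p ∣ Nat.card T)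
    (htop : T ⊔ H = ⊤) (hχ : IsIrrCharacter G χ)
    (hres : IsIrrCharacter T (fun t : T => χ t)) (hdet : detOrder χ ∣ Nat.card T)
    (ih : ∀ L : Subgroup G, L < T → H ≤ Subgroup.normalizer (L : Set G) →
      ⁅L, H⁆ ⊓ Subgroup.centralizer (H : Set G) = ⊥)
    {t a : G} (ht : t ∈ T) (ha : a ∈ H) : χ ⁅t, a⁆ = χ 1 := by
  classical
  cases nonempty_fintype G
  by_cases hcent : T ≤ Subgroup.centralizer ({a} : Set G)
  · have h1 : t * a = a * t := Subgroup.mem_centralizer_singleton_iff.1 (hcent ht)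
    rw [commutatorElement_def, h1]
    simp [mul_assoc]
  have hcom : ∀ a ∈ H, ∀ b ∈ H, a * b = b * a := fun a ha b hb =>
    congrArg Subtype.val (hab.is_comm.comm (⟨a, ha⟩ : H) ⟨b, hb⟩)
  obtain ⟨i, hi⟩ := pPow_of_mem hHp ha
  have hodd : Odd (orderOf a) := by rw [hi]; exact (hp.out.odd_of_ne_two hp2).pow
  obtain ⟨n, hn⟩ := IsChar.one_eq_nat (IsIrr.isCharacter hχ)
  have hn0 : (n : ℂ) ≠ 0 := hn ▸ IsIrr.one_ne_zero hχ
  have hnp : ¬ p ∣ n := fun h => hTp (h.trans (IsIrr.degree_dvd_card hres hn))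
  have hsq : ∀ b ∈ H, ¬ T ≤ Subgroup.centralizer ({b ^ 2} : Set G) →
      χ (b ^ 2) * χ 1 = χ b ^ 2 := by
    intro b hb hb2
    have hg : ∀ g : G, χ (b * (g * b * g⁻¹)) = χ (b ^ 2) := by
      intro g
      have hgm : g ∈ (T : Set G) * (H : Set G) := by
        rw [← Subgroup.normal_mul, htop]; exact Subgroup.mem_top g
      obtain ⟨t, ht, y, hy, rfl⟩ := hgm
      obtain ⟨k, hk, hkn⟩ := exists_conj_core hHp hab hcl t
      have hkT : k ∈ T := core_le_of_mem hHp hab hcl
        (by rw [Subgroup.normalizer_eq_top]; exact le_top) hTp ht hk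
      have hcm : Commute (k⁻¹ * t) b := by
        have h1 : ⁅k⁻¹ * t, b⁆ ∈ H := by
          rw [commutatorElement_def]
          exact mul_mem ((Subgroup.mem_normalizer_iff.1 hkn b).1 hb) (inv_mem hb)
        have h2 : ⁅k⁻¹ * t, b⁆ ∈ T := by
          rw [commutatorElement_def, mul_assoc, mul_assoc, ← mul_assoc b]
          exact mul_mem (mul_mem (inv_mem hkT) ht) ((inferInstance : T.Normal).conj_mem _
            (inv_mem (mul_mem (inv_mem hkT) ht)) b)
        exact commutatorElement_eq_one_iff_commute.1 (eq_one_of_mem_odd hHp hTp h1 h2)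
      have hb2H : b ^ 2 ∈ H := pow_mem hb 2
      set k'' := (b * k * b⁻¹) * (b ^ 2 * k⁻¹ * (b ^ 2)⁻¹) with hk''
      have hk''K : k'' ∈ core p H t :=
        mul_mem (conj_mem_core (le_join t hb) hk)
          (conj_mem_core (le_join t hb2H) (inv_mem hk))
      have e1 : b * ((t * y) * b * (t * y)⁻¹) = k'' * b ^ 2 := by
        have e2 : y * b * y⁻¹ = b := by rw [hcom y hy b hb, mul_inv_cancel_right]
        have e3 : (k⁻¹ * t) * b * (k⁻¹ * t)⁻¹ = b := by rw [hcm.eq, mul_inv_cancel_right]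
        calc b * ((t * y) * b * (t * y)⁻¹) = b * k * ((k⁻¹ * t) * (y * b * y⁻¹) * (k⁻¹ * t)⁻¹) * k⁻¹ := by
              group
          _ = b * k * b * k⁻¹ := by rw [e2, e3]
          _ = k'' * b ^ 2 := by rw [hk'']; group
      rw [e1]
      exact value_core hM hHp hab hcl hTp hχ hres hdet ih hb2H hb2 ht hk''K
    have h := Block.sum_mul_conj ⟨χ, hχ⟩ b b
    simp only [hg, Finset.sum_const, Finset.card_univ, nsmul_eq_mul, ← Nat.card_eq_fintype_card] at h
    rw [eq_div_iff (IsIrr.one_ne_zero hχ), mul_assoc, mul_assoc] at h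
    have := mul_left_cancel₀ (Nat.cast_ne_zero.2 Nat.card_pos.ne') h
    rw [this, sq]
  have ha0 : χ a ≠ 0 := by
    intro h0
    have h1 := Char.IsChar.sub_degree_mem (IsIrr.isCharacter hχ) hM ⟨i, hi⟩
    simp only [h0, hn] at h1
    refine hnp ((Char.natCast_mem_iff hM n).1 ?_)
    rw [← neg_mem_iff]
    convert h1 using 1
    apply Subtype.val_injective
    simp
  have hone : ‖χ a / χ 1‖ = 1 := by
    refine norm_eq_one_of_sq hodd (fun g => χ g / χ 1) (fun j => ?_) (div_ne_zero ha0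
      (IsIrr.one_ne_zero hχ))
    have hj : ¬ T ≤ Subgroup.centralizer ({(a ^ 2 ^ j) ^ 2} : Set G) := by
      intro hle
      refine hcent fun x hx => Subgroup.mem_centralizer_singleton_iff.2 ?_
      have hc : Commute x ((a ^ 2 ^ j) ^ 2) := Subgroup.mem_centralizer_singleton_iff.1 (hle hx)
      rw [← pow_mul, ← pow_succ] at hc
      obtain ⟨m, hm⟩ := exists_pow_eq_self_of_coprime (x := a) (n := 2 ^ (j + 1))
        ((hodd.coprime_two_left).pow_left _)
      have := hc.pow_right m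
      rw [hm] at this
      exact this.eq
    rw [div_pow, div_eq_div_iff (IsIrr.one_ne_zero hχ) (pow_ne_zero _ (IsIrr.one_ne_zero hχ)),
      ← hsq _ (pow_mem ha _) hj]
    ring
  obtain ⟨m, ρ, hρ, hρc⟩ := id hχ
  have hnorm : ‖ρ.character a‖ = (Module.finrank ℂ (Fin m → ℂ) : ℝ) := by
    rw [norm_div, div_eq_one_iff_eq (norm_ne_zero_iff.2 (IsIrr.one_ne_zero hχ))] at hone
    rw [hρc, hone, ← hρc, Representation.char_one, Complex.norm_natCast]
  obtain ⟨ω, hω⟩ := (norm_character_eq_iff ρ a).1 hnorm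
  have hker : ρ ⁅t, a⁆ = 1 := by
    have h1 : ρ t * ρ a = ρ a * ρ t := by
      rw [hω, ← Module.End.one_eq_id, smul_mul_assoc, mul_smul_comm, one_mul, mul_one]
    rw [commutatorElement_def, map_mul, map_mul, map_mul, h1, mul_assoc (ρ a), ← map_mul ρ t,
      mul_inv_cancel, map_one, mul_one, ← map_mul, mul_inv_cancel, map_one]
  rw [← hρc, Representation.character, Representation.character, hker, map_one ρ]

/-- The step of the induction. -/
theorem inf_centralizer_eq_bot_of_step (hp2 : p ≠ 2) (hHp : IsPGroup p H)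
    (hab : IsMulCommutative H) (hcl : IsExtremelyClosed H) (hTp : ¬ p ∣ Nat.card T)
    (htop : T ⊔ H = ⊤) (hTH : ⁅T, H⁆ = T)
    (ih : ∀ L : Subgroup G, L < T → H ≤ Subgroup.normalizer (L : Set G) →
      ⁅L, H⁆ ⊓ Subgroup.centralizer (H : Set G) = ⊥) :
    T ⊓ Subgroup.centralizer (H : Set G) = ⊥ := by
  classical
  obtain ⟨M, hM⟩ := Cfsg.Agent.Char.exists_isPModular p hp.out
  by_contra hne
  have hHN : H ≤ Subgroup.normalizer (T : Set G) := by
    rw [Subgroup.normalizer_eq_top]; exact le_top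
  obtain ⟨θ, hθ1, hθ⟩ := exists_invariant_irr hM hHp hHN hTp hne
  have hinv : ∀ (g : G) (n : T), (θ : T → ℂ) ⟨g * n * g⁻¹,
      (inferInstance : T.Normal).conj_mem (n : G) n.2 g⟩ = (θ : T → ℂ) n := by
    intro g n
    have hgm : g ∈ (T : Set G) * (H : Set G) := by
      rw [← Subgroup.normal_mul, htop]; exact Subgroup.mem_top g
    obtain ⟨t, ht, y, hy, rfl⟩ := hgm
    have h1 : (⟨t * y * n * (t * y)⁻¹, (inferInstance : T.Normal).conj_mem (n : G) n.2 (t * y)⟩ : T) =
        (⟨t, ht⟩ : T) * ⟨y * n * y⁻¹, (inferInstance : T.Normal).conj_mem (n : G) n.2 y⟩ *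
          (⟨t, ht⟩ : T)⁻¹ := Subtype.ext (by simp [mul_assoc])
    rw [h1, irr_classFun θ _ (⟨t, ht⟩ : T)]
    exact hθ y hy n _ rfl
  obtain ⟨d, -, hd⟩ := IsIrr.one_eq_pos θ.2
  have hidx : T.index ∣ Nat.card H := by
    have h1 : (T.relIndex H) = T.index := by
      rw [← Subgroup.relIndex_sup_right (H := H) (K := T), sup_comm, htop, Subgroup.relIndex_top_right]
    exact h1 ▸ Subgroup.index_dvd_card _
  obtain ⟨k, hk⟩ := IsPGroup.iff_card.1 hHp
  have hdetT : Cfsg.detOrder (θ : T → ℂ) ∣ Nat.card T := by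
    obtain ⟨μ, hμ⟩ := isCharacter_detChar θ.2
    rw [Cfsg.detOrder, hμ, orderOf_unitsFun]
    exact orderOf_dvd_of_pow_eq_one (MonoidHom.ext fun g => by
      rw [MonoidHom.pow_apply, ← map_pow, pow_card_eq_one', map_one, MonoidHom.one_apply])
  have hco : (Nat.card H).Coprime (Nat.card T) := by
    rw [hk]; exact (hp.out.coprime_iff_not_dvd.2 hTp).pow_left k
  have hcopI : Nat.Coprime T.index (Cfsg.detOrder (θ : T → ℂ) * d) :=
    Nat.Coprime.coprime_dvd_left hidx (Nat.Coprime.mul_right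
      (hco.coprime_dvd_right hdetT) (hco.coprime_dvd_right (IsIrr.degree_dvd_card θ.2 hd)))
  obtain ⟨χ, ⟨hχ, hχT, hχd⟩, -⟩ := S0867.result T _ θ.2 hinv d hd hcopI
  have hres : IsIrrCharacter T (fun t : T => χ t) := by
    rw [show (fun t : T => χ t) = (θ : T → ℂ) from funext hχT]; exact θ.2
  have hker : T ≤ Char.charKer (IsIrr.isCharacter hχ) := by
    rw [← hTH, Subgroup.commutator_le]
    exact fun t ht a ha => (Char.mem_charKer _).2
      (commutator_mem_ker hp2 hM hHp hab hcl hTp htop hχ hres (hχd ▸ hdetT) ih ht ha)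
  have hconst : ∀ t : T, (θ : T → ℂ) t = (d : ℂ) := fun t => by
    rw [← hχT, (Char.mem_charKer _).1 (hker t.2), ← hd, ← hχT, OneMemClass.coe_one]
  cases nonempty_fintype T
  have hn := Char.classInner_self_irr θ.2
  simp only [classInner, hconst, Complex.conj_natCast, Finset.sum_const, Finset.card_univ,
    nsmul_eq_mul, Nat.card_eq_fintype_card] at hn
  rw [← mul_assoc, inv_mul_cancel₀ (Nat.cast_ne_zero.2 Fintype.card_pos.ne'), one_mul] at hn
  have hd1 : d = 1 := by
    have : d * d = 1 := by exact_mod_cast hn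
    exact Nat.eq_one_of_mul_eq_one_right this
  exact hθ1 (funext fun t => by rw [hconst, hd1, Nat.cast_one])

end Step

/-- The commutator with a normalized `p'`-subgroup meets the centralizer trivially. -/
theorem commutator_inf_centralizer (hp2 : p ≠ 2) : ∀ (n : ℕ) (G : Type u) [Group G] [Finite G]
    (H T : Subgroup G), IsPGroup p H → IsMulCommutative H → IsExtremelyClosed H →
    ¬ p ∣ Nat.card T → H ≤ Subgroup.normalizer (T : Set G) → Nat.card T = n →
    ⁅T, H⁆ ⊓ Subgroup.centralizer (H : Set G) = ⊥ := by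
  intro n
  induction n using Nat.strong_induction_on with
  | _ n ih =>
    intro G _ _ H T hHp hab hcl hTp hHT hn
    classical
    haveI : Group.IsSolvable H := by
      letI : CommGroup H := { (inferInstance : Group H) with mul_comm := hab.is_comm.comm }
      infer_instance
    obtain ⟨k, hk⟩ := IsPGroup.iff_card.1 hHp
    have hco : (Nat.card H).Coprime (Nat.card T) := by
      rw [hk]; exact (hp.out.coprime_iff_not_dvd.2 hTp).pow_left k
    have hle : ⁅T, H⁆ ≤ T := Grp.commutator_le_left_of_le_normalizer hHT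
    by_cases hTH : ⁅T, H⁆ = T
    swap
    · have hlt : Nat.card ↥⁅T, H⁆ < n := hn ▸ lt_of_le_of_ne (Subgroup.card_le_of_le hle)
          fun h => hTH (Subgroup.eq_of_le_of_card_ge hle h.ge)
      have h1 := ih _ hlt G H ⁅T, H⁆ hHp hab hcl
        (fun h => hTp (h.trans (Subgroup.card_dvd_of_le hle)))
        (Grp.right_le_normalizer_commutator H T) rfl
      rwa [Grp.commutator_commutator_eq H T hHT hco (Or.inl inferInstance)] at h1
    set X := T ⊔ H with hX
    have hTX : T ≤ X := le_sup_left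
    have hHX : H ≤ X := le_sup_right
    set T' := T.subgroupOf X with hT'
    set H' := H.subgroupOf X with hH'
    haveI : T'.Normal := Subgroup.normal_subgroupOf_of_le_normalizer
      (sup_le Subgroup.le_normalizer hHT)
    have hcT : Nat.card T' = Nat.card T :=
      Nat.card_congr (Subgroup.subgroupOfEquivOfLe hTX).toEquiv
    have hab' : IsMulCommutative H' := ⟨⟨fun a b => by
      refine Subtype.ext (Subtype.ext ?_)
      have := congrArg Subtype.val
        (hab.is_comm.comm (⟨((a : X) : G), a.2⟩ : H) ⟨((b : X) : G), b.2⟩)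
      simpa using this⟩⟩
    have hHp' : IsPGroup p H' := hHp.comap_subtype
    have hcl' : IsExtremelyClosed H' := isExtremelyClosed_subgroupOf hcl hHX
    have htop : T' ⊔ H' = ⊤ := by
      rw [hT', hH', ← Subgroup.subgroupOf_sup hTX hHX, Subgroup.subgroupOf_self]
    have hTH' : ⁅T', H'⁆ = T' := by
      apply Subgroup.map_injective (f := X.subtype) Subtype.val_injective
      rw [Subgroup.map_commutator, Subgroup.map_subgroupOf_eq_of_le hTX,
        Subgroup.map_subgroupOf_eq_of_le hHX, hTH]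
    have h1 := inf_centralizer_eq_bot_of_step hp2 hHp' hab' hcl' (hcT ▸ hTp) htop hTH'
      fun L hL hHL => ih _ (by
        rw [← hn, ← hcT]
        exact lt_of_le_of_ne (Subgroup.card_le_of_le hL.le)
          fun h => hL.ne (Subgroup.eq_of_le_of_card_ge hL.le h.ge))
        X H' L hHp' hab' hcl' (fun h => hTp (hcT ▸ h.trans (Subgroup.card_dvd_of_le hL.le))) hHL rfl
    rw [hTH, eq_bot_iff]
    rintro x ⟨hxT, hxH⟩
    have h2 : (⟨x, hTX hxT⟩ : X) ∈ T' ⊓ Subgroup.centralizer (H' : Set X) :=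
      ⟨hxT, Subgroup.mem_centralizer_iff.2 fun y hy =>
        Subtype.ext (Subgroup.mem_centralizer_iff.1 hxH y hy)⟩
    rw [h1, Subgroup.mem_bot] at h2
    exact congrArg Subtype.val h2

end Cfsg.Agent.ExtClosedP
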