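import Cfsg.Agent.Lib.Invol.ExtClosedOdd.Basic
import Cfsg.Agent.Lib.Block.Orth

/-!
# Elements of a pair of conjugates of an extremely closed abelian p-subgroup
-/

set_option linter.unusedSectionVars false
set_option linter.style.haveILetI false

namespace Cfsg.Agent.ExtClosedP

open Cfsg Cfsg.Agent.Block

universe u

variable {G : Type u} [Group G] [Finite G] {p : ℕ} [hp : Fact p.Prime] {H : Subgroup G}

/-- An element `k * a` of a pair is conjugate by the `p'`-core to `a * c`, with `c` in the core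
centralizing `a`. -/
theorem exists_conj_comm (hHp : IsPGroup p H) (hab : IsMulCommutative H) (hcl : IsExtremelyClosed H)
    {g k a : G} (hk : k ∈ core p H g) (ha : a ∈ H) :
    ∃ k₁ ∈ core p H g, ∃ c ∈ core p H g, Commute c a ∧ k₁ * (k * a) * k₁⁻¹ = a * c := by
  classical
  have hxT : k * a ∈ join H g := mul_mem (core_le g hk) (le_join g ha)
  obtain ⟨u, v, huv, hcomm, ⟨i, hu⟩, hv, huz, hvz⟩ := exists_pPart_zpowers (p := p) (k * a)
  have huT : u ∈ join H g := Subgroup.zpowers_le.2 hxT huz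
  have hvT : v ∈ join H g := Subgroup.zpowers_le.2 hxT hvz
  have hvK : v ∈ core p H g := mem_core_of_odd hHp hab hcl hvT hv
  set T := join H g with hT
  let P : Sylow p T := (hHp.comap_subtype (K := T)).toSylow (not_dvd_index hHp hab hcl g)
  have hPc : (P : Subgroup T) = H.subgroupOf T := IsPGroup.toSylow_coe _ _
  obtain ⟨t, ht⟩ := Invol.exists_conj_mem_sylow (x := (⟨u, huT⟩ : T))
    (by rwa [Subgroup.orderOf_mk]) P
  change _ ∈ (P : Subgroup T) at ht
  rw [hPc, Subgroup.mem_subgroupOf] at ht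
  simp only [Subgroup.coe_mul, Subgroup.coe_inv] at ht
  obtain ⟨k₀, hk₀, a₀, ha₀, et⟩ := exists_dec hHp hab hcl t.2
  set k₁ := a₀⁻¹ * k₀ * a₀ with hk₁def
  have hk₁ : k₁ ∈ core p H g := by
    have := conj_mem_core (inv_mem (le_join g ha₀)) hk₀
    rwa [inv_inv] at this
  set a' := k₁ * u * k₁⁻¹ with ha'def
  have ha' : a' ∈ H := by
    have := mul_mem (mul_mem (inv_mem ha₀) ht) ha₀
    rw [et] at this
    rwa [show a₀⁻¹ * (k₀ * a₀ * u * (k₀ * a₀)⁻¹) * a₀ = a' by rw [ha'def, hk₁def]; group] at this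
  set c := k₁ * v * k₁⁻¹ with hcdef
  have hcK : c ∈ core p H g := mul_mem (mul_mem hk₁ hvK) (inv_mem hk₁)
  have hx' : k₁ * (k * a) * k₁⁻¹ = a' * c := by rw [← huv, ha'def, hcdef]; group
  have haa : a' = a := by
    refine (dec_unique hHp (k := a' * c * a'⁻¹)
      (k' := k₁ * k * (a * k₁⁻¹ * a⁻¹)) (g := g) (conj_mem_core (le_join g ha') hcK)
      (mul_mem (mul_mem hk₁ hk) (conj_mem_core (le_join g ha) (inv_mem hk₁))) ha' ha ?_).1
    rw [inv_mul_cancel_right, ← hx']
    group
  rw [haa] at hx'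
  refine ⟨k₁, hk₁, c, hcK, ?_, hx'⟩
  rw [← haa, ha'def, hcdef]
  exact (hcomm.symm.map (MulAut.conj k₁).toMonoidHom : Commute _ _)

/-- The `p'`-core of a pair given by an element of a normalized `p'`-subgroup lies in it. -/
theorem core_le_of_mem (hHp : IsPGroup p H) (hab : IsMulCommutative H)
    (hcl : IsExtremelyClosed H) {B : Subgroup G} (hB : H ≤ Subgroup.normalizer (B : Set G))
    (hBp : ¬ p ∣ Nat.card B) {g : G} (hg : g ∈ B) : core p H g ≤ B := by
  intro x hx
  refine mem_of_odd_sup hHp hB hBp ?_ (not_dvd_orderOf (core_odd g) hx)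
  refine (sup_le le_sup_left ?_ : join H g ≤ H ⊔ B) (core_le g hx)
  rintro _ ⟨a, ha, rfl⟩
  simpa using mul_mem (mul_mem (Subgroup.mem_sup_right hg) (Subgroup.mem_sup_left ha))
    (inv_mem (Subgroup.mem_sup_right (S := H) hg))

end Cfsg.Agent.ExtClosedP
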