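import Cfsg.Agent.Lib.Invol.ExtClosedOdd.Moment
import Cfsg.Agent.Lib.Invol.ExtClosedOdd.Pair
import Cfsg.Agent.Lib.Invol.ZStar
import Cfsg.Agent.Lib.Grp.Frattini
import Cfsg.Agent.S3021

/-!
# An extremely closed abelian p-subgroup, p odd, is normal modulo the p'-core
-/

set_option linter.unusedSectionVars false
set_option linter.style.haveILetI false

namespace Cfsg.Agent.ExtClosedP

open Cfsg Cfsg.Agent.Block

universe u

variable {G : Type u} [Group G] [Finite G] {p : ℕ} [hp : Fact p.Prime] {M : Ideal AlgInt}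
  {H : Subgroup G}

/-- `H ⊔ O` is normal when the normalizer of `H` and a normal subgroup `O` generate. -/
theorem normal_sup_of_top {O : Subgroup G} [hO : O.Normal]
    (h : Subgroup.normalizer (H : Set G) ⊔ O = ⊤) : (H ⊔ O).Normal := by
  refine Subgroup.normalizer_eq_top_iff.1 (eq_top_iff.2 (h.ge.trans (sup_le ?_ ?_)))
  · intro g hg
    refine Subgroup.mem_normalizer_iff.2 ?_
    have key : ∀ g ∈ Subgroup.normalizer (H : Set G), ∀ x ∈ H ⊔ O, g * x * g⁻¹ ∈ H ⊔ O := by
      intro g hg x hx
      have h1 : (H ⊔ O).map (MulAut.conj g).toMonoidHom ≤ H ⊔ O := by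
        rw [Subgroup.map_sup]
        refine sup_le_sup ?_ ?_
        · rintro _ ⟨a, ha, rfl⟩
          simpa using (Subgroup.mem_normalizer_iff.1 hg a).1 ha
        · rintro _ ⟨a, ha, rfl⟩
          simpa using hO.conj_mem a ha g
      exact h1 ⟨x, hx, by simp⟩
    intro x
    refine ⟨key g hg x, fun hx => ?_⟩
    have := key g⁻¹ (inv_mem hg) _ hx
    simpa [mul_assoc] using this
  · exact le_trans le_sup_right Subgroup.le_normalizer

/-- An element of the odd core of the centralizer does not move the values in the principal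
block. -/
theorem value_eq_of_core [Fintype G] (hM : IsPModular p M) {z : G}
    (hz : ∃ k : ℕ, orderOf z = p ^ k) {s : Subgroup.centralizer ({z} : Set G)}
    (hs : s ∈ pPrimeCore p (Subgroup.centralizer ({z} : Set G))) {χ : IrrCharacter G}
    (hχ : χ ∈ principalBlock M G) : (χ : G → ℂ) (z * (s : G)) = (χ : G → ℂ) z := by
  classical
  cases nonempty_fintype (Subgroup.centralizer ({z} : Set G))
  obtain ⟨k, hk⟩ := hz
  haveI := Grp.pPrimeCore_isNormal (p := p) (G := Subgroup.centralizer ({z} : Set G))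
  have hK := Grp.pPrimeCore_not_dvd (p := p) (G := Subgroup.centralizer ({z} : Set G))
  have hsy : ¬ p ∣ orderOf s := fun hd =>
    hK (hd.trans (by rw [← Subgroup.orderOf_mk s hs]; exact orderOf_dvd_natCard _))
  have hP : IsPGroup p (Subgroup.zpowers z) :=
    IsPGroup.of_card (n := k) (by rw [Nat.card_zpowers, hk])
  have hdef : ∀ ξ : IrrCharacter (Subgroup.centralizer ({z} : Set G)),
      InducedBlockDefined M (Subgroup.centralizer ({z} : Set G))
        (blockOf M (ξ : Subgroup.centralizer ({z} : Set G) → ℂ)) := fun ξ => by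
    refine inducedBlockDefined_brauer hM hP (Subgroup.zpowers_le.2 (centralizer_self_mem z)) ?_ ?_
      (isPBlock_blockOf ξ)
    · exact Subgroup.centralizer_le (Set.singleton_subset_iff.2 (Subgroup.mem_zpowers z))
    · exact fun c hc => BS.mem_normalizer_of_conj_le fun w hw => by
        obtain ⟨i, rfl⟩ := Subgroup.mem_zpowers_iff.1 hw
        have hcz : Commute c z := Subgroup.mem_centralizer_singleton_iff.1 hc
        rw [(hcz.zpow_right i).eq, mul_inv_cancel_right]
        exact hw
  have e1 := value_eq_sum_inducing hM ⟨k, hk⟩ (isPBlock_principalBlock (G := G)) hsy χ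
  have e2 := value_eq_sum_inducing hM ⟨k, hk⟩ (isPBlock_principalBlock (G := G))
    (y := (1 : Subgroup.centralizer ({z} : Set G))) (by simpa using hp.out.ne_one) χ
  rw [if_pos hχ] at e1 e2
  rw [← e1, show (χ : G → ℂ) z = (χ : G → ℂ) (z * ((1 : Subgroup.centralizer ({z} : Set G)) : G)) by
    rw [OneMemClass.coe_one, mul_one], ← e2]
  refine Finset.sum_congr rfl fun ξ hξ => ?_
  have hb : ξ ∈ principalBlock M (Subgroup.centralizer ({z} : Set G)) := by
    rw [← (principal_third_main hM (hdef ξ)).1 (Finset.mem_filter.1 hξ).2]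
    exact mem_blockOf_self hM ξ
  rw [principal_ker_of_coprime hM hK hb hs]

/-- Values of the characters of the principal block off the odd core of a pair. -/
theorem value_eq {M : Ideal AlgInt} (hM : IsPModular p M) (hHp : IsPGroup p H)
    (hab : IsMulCommutative H) (hcl : IsExtremelyClosed H)
    (hnc : ∀ a ∈ H, a ≠ 1 → a ∉ Subgroup.center G)
    (ih : ∀ C : Subgroup G, H ≤ C → C ≠ ⊤ →
      Subgroup.normalizer (H.subgroupOf C : Set C) ⊔ Cfsg.pPrimeCore p C = ⊤)
    {χ : IrrCharacter G} (hχ : χ ∈ principalBlock M G) {g k a : G} (hk : k ∈ core p H g)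
    (ha : a ∈ H) (ha1 : a ≠ 1) : (χ : G → ℂ) (k * a) = (χ : G → ℂ) a := by
  classical
  cases nonempty_fintype G
  obtain ⟨k₁, -, c, hcK, hca, hx'⟩ := exists_conj_comm hHp hab hcl hk ha
  rw [← irr_classFun χ (k * a) k₁, hx']
  -- the odd element lies in the odd core of the centralizer
  set C := Subgroup.centralizer ({a} : Set G) with hC
  have hHC : H ≤ C := fun b hb => Subgroup.mem_centralizer_singleton_iff.2
    (congrArg Subtype.val (hab.is_comm.comm (⟨b, hb⟩ : H) ⟨a, ha⟩))
  have hCtop : C ≠ ⊤ := fun he => hnc a ha ha1 (Subgroup.mem_center_iff.2 fun w =>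
    Subgroup.mem_centralizer_singleton_iff.1 (he ▸ Subgroup.mem_top w : w ∈ C))
  haveI : (Cfsg.pPrimeCore p C).Normal := Grp.pPrimeCore_isNormal
  have hn := normal_sup_of_top (ih C hHC hCtop)
  have hcC : c ∈ C := Subgroup.mem_centralizer_singleton_iff.2 hca.eq
  set B := (Cfsg.pPrimeCore p C).map C.subtype with hB
  have hBn : H ≤ Subgroup.normalizer (B : Set G) := fun b hb =>
    BS.mem_normalizer_of_conj_le fun w hw => by
      obtain ⟨w, hw, rfl⟩ := hw
      exact ⟨⟨b, hHC hb⟩ * w * ⟨b, hHC hb⟩⁻¹,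
        (inferInstance : (Cfsg.pPrimeCore p C).Normal).conj_mem w hw _, rfl⟩
  have hBp : ¬ p ∣ Nat.card B := by
    rw [hB, Subgroup.card_map_of_injective Subtype.val_injective]
    exact Grp.pPrimeCore_not_dvd
  have hcB : c ∈ B := by
    refine mem_of_conj_le hHp hab hcl hcK hBn hBp fun b hb => ?_
    have h1 := hn.conj_mem (⟨b, hHC hb⟩ : C) (Subgroup.mem_sup_left hb) ⟨c, hcC⟩
    have h2 := Subgroup.mem_map_of_mem C.subtype h1
    rw [Subgroup.map_sup, Subgroup.map_subgroupOf_eq_of_le hHC] at h2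
    exact h2
  obtain ⟨s, hs, hsc⟩ := hcB
  rw [← hsc]
  exact value_eq_of_core hM (pPow_of_mem hHp ha) hs hχ

/-- An extremely closed abelian p-subgroup is normal modulo the odd core. -/
theorem normalizer_sup_core (hp2 : p ≠ 2) : ∀ (n : ℕ) (G : Type u) [Group G] [Finite G], Nat.card G = n →
    ∀ H : Subgroup G, IsPGroup p H → IsMulCommutative H → IsExtremelyClosed H →
      Subgroup.normalizer (H : Set G) ⊔ Cfsg.pPrimeCore p G = ⊤ := by
  intro n
  induction n using Nat.strong_induction_on with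
  | _ n ih =>
    intro G _ _ hn H hHp hab hcl
    classical
        haveI hON : (Cfsg.pPrimeCore p G).Normal := Grp.pPrimeCore_isNormal
    by_cases hHbot : H = ⊥
    · subst hHbot
      rw [Subgroup.normalizer_eq_top, top_sup_eq]
    have habmap : ∀ (K : Subgroup G) [K.Normal],
        IsMulCommutative ↥(H.map (QuotientGroup.mk' K)) := fun K _ =>
      ⟨⟨by
        rintro ⟨_, a, ha, rfl⟩ ⟨_, b, hb, rfl⟩
        refine Subtype.ext ?_
        show QuotientGroup.mk' K a * QuotientGroup.mk' K b =
          QuotientGroup.mk' K b * QuotientGroup.mk' K a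
        rw [← map_mul, ← map_mul]
        exact congrArg _ (congrArg Subtype.val (hab.is_comm.comm (⟨a, ha⟩ : H) ⟨b, hb⟩))⟩⟩
    -- the odd core is trivial
    by_cases hO : Cfsg.pPrimeCore p G = ⊥
    swap
    · have hlt : Nat.card (G ⧸ Cfsg.pPrimeCore p G) < n := by
        rw [← hn, Subgroup.card_eq_card_quotient_mul_card_subgroup (Cfsg.pPrimeCore p G)]
        exact lt_mul_of_one_lt_right Nat.card_pos ((Subgroup.one_lt_card_iff_ne_bot _).2 hO)
      have h1 := ih _ hlt _ rfl (H.map (QuotientGroup.mk' (Cfsg.pPrimeCore p G))) (hHp.map _) (habmap _)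
        (isExtremelyClosed_map hHp hab hcl Grp.pPrimeCore_not_dvd)
      haveI : (pPrimeCore p G).Normal := hON
      rw [show Cfsg.pPrimeCore p (G ⧸ Cfsg.pPrimeCore p G) = ⊥ from Grp.pPrimeCore_quotient_eq_bot, sup_bot_eq,
        Subgroup.normalizer_eq_top_iff] at h1
      refine normalizer_sup_of_normal hHp hab hcl hON Grp.pPrimeCore_not_dvd ?_
      have h2 := h1.comap (QuotientGroup.mk' (Cfsg.pPrimeCore p G))
      rwa [Subgroup.comap_map_eq, QuotientGroup.ker_mk'] at h2
    rw [hO, sup_bot_eq]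
    -- a proper subgroup
    have hih : ∀ C : Subgroup G, H ≤ C → C ≠ ⊤ →
        Subgroup.normalizer (H.subgroupOf C : Set C) ⊔ Cfsg.pPrimeCore p C = ⊤ := by
      intro C hHC hC
      refine ih _ ?_ C rfl _ (hHp.comap_subtype) ⟨⟨fun a b => by
        refine Subtype.ext (Subtype.ext ?_)
        have := congrArg Subtype.val
          (hab.is_comm.comm (⟨((a : C) : G), a.2⟩ : H) ⟨((b : C) : G), b.2⟩)
        simpa using this⟩⟩
        (isExtremelyClosed_subgroupOf hcl hHC)
      rw [← hn]
      rcases (Nat.le_of_dvd Nat.card_pos (Subgroup.card_subgroup_dvd_card C)).lt_or_eq with h1 | h1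
      · exact h1
      · exact absurd (Subgroup.eq_top_of_card_eq C h1) hC
    by_cases hgen : ∃ D : Subgroup G, D.Normal ∧ H ≤ D ∧ D ≠ ⊤
    · obtain ⟨D, hDn, hHD, hD⟩ := hgen
      have h1 := hih D hHD hD
      have hOD : Cfsg.pPrimeCore p D = ⊥ := by
        rw [← Subgroup.map_eq_bot_iff_of_injective _ (f := D.subtype) Subtype.val_injective,
          Grp.pPrimeCore_map_eq D, show pPrimeCore p G = ⊥ from hO, bot_inf_eq]
      rw [hOD, sup_bot_eq] at h1
      refine eq_top_iff.2 fun g _ => BS.mem_normalizer_of_conj_le fun a ha => ?_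
      refine (hcl g).le ⟨conj_mem_join g ha, Subgroup.mem_normalizer_iff.2 fun b => ?_⟩
      have hd : g * a * g⁻¹ ∈ D := hDn.conj_mem a (hHD ha) g
      have h2 : (⟨_, hd⟩ : D) ∈ Subgroup.normalizer (H.subgroupOf D : Set D) :=
        h1 ▸ Subgroup.mem_top _
      refine ⟨fun hb => (Subgroup.mem_normalizer_iff.1 h2 ⟨b, hHD hb⟩).1 hb, fun hb => ?_⟩
      have hbD : b ∈ D := by
        have := mul_mem (mul_mem (inv_mem hd) (hHD hb)) hd
        rwa [show (g * a * g⁻¹)⁻¹ * (g * a * g⁻¹ * b * (g * a * g⁻¹)⁻¹) * (g * a * g⁻¹) = b by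
          group] at this
      exact (Subgroup.mem_normalizer_iff.1 h2 ⟨b, hbD⟩).2 hb
    push Not at hgen
    -- a central element
    by_cases hc : ∃ a ∈ H, a ≠ 1 ∧ a ∈ Subgroup.center G
    · obtain ⟨a, ha, ha1, hac⟩ := hc
      set A := H ⊓ Subgroup.center G with hA
      have hA1 : A ≠ ⊥ := fun h => ha1 (Subgroup.mem_bot.1 (h ▸ (⟨ha, hac⟩ : a ∈ A)))
      haveI hAn : A.Normal := ⟨fun x hx w => by
        rw [Subgroup.mem_center_iff.1 hx.2 w, mul_inv_cancel_right]; exact hx⟩
      have hlt : Nat.card (G ⧸ A) < n := by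
        rw [← hn, Subgroup.card_eq_card_quotient_mul_card_subgroup A]
        exact lt_mul_of_one_lt_right Nat.card_pos ((Subgroup.one_lt_card_iff_ne_bot _).2 hA1)
      have h1 := ih _ hlt _ rfl (H.map (QuotientGroup.mk' A)) (hHp.map _) (habmap _)
        (isExtremelyClosed_map_le hcl inf_le_left)
      suffices hOA : Cfsg.pPrimeCore p (G ⧸ A) = ⊥ by
        rw [hOA, sup_bot_eq, Subgroup.normalizer_eq_top_iff] at h1
        have h2 := h1.comap (QuotientGroup.mk' A)
        rw [Subgroup.comap_map_eq, QuotientGroup.ker_mk', sup_eq_left.2 inf_le_left] at h2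
        exact Subgroup.normalizer_eq_top_iff.2 h2
      haveI : (Cfsg.pPrimeCore p (G ⧸ A)).Normal := Grp.pPrimeCore_isNormal
      set L := (Cfsg.pPrimeCore p (G ⧸ A)).comap (QuotientGroup.mk' A) with hL
      haveI hLn : L.Normal := Subgroup.Normal.comap inferInstance _
      have hAL : A ≤ L := fun x hx => by
        rw [hL, Subgroup.mem_comap,
          show QuotientGroup.mk' A x = 1 from (QuotientGroup.eq_one_iff x).2 hx]
        exact one_mem _
      have hAp : IsPGroup p A := hHp.to_le inf_le_left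
      have hidx : ¬ p ∣ (A.subgroupOf L).index := by
        have hm : Function.Surjective ((QuotientGroup.mk' A).subgroupComap (Cfsg.pPrimeCore p (G ⧸ A))) :=
          MonoidHom.subgroupComap_surjective_of_surjective _ _ (QuotientGroup.mk'_surjective A)
        have hk : ((QuotientGroup.mk' A).subgroupComap (Cfsg.pPrimeCore p (G ⧸ A))).ker = A.subgroupOf L := by
          ext x
          rw [MonoidHom.mem_ker, Subgroup.mem_subgroupOf, ← QuotientGroup.eq_one_iff, Subtype.ext_iff]
          rfl
        rw [← hk, Subgroup.index_ker, MonoidHom.range_eq_top.2 hm, Subgroup.card_top]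
        exact Grp.pPrimeCore_not_dvd
      let Q : Sylow p L := (hAp.of_equiv (Subgroup.subgroupOfEquivOfLe hAL).symm).toSylow hidx
      have hQ : Subgroup.normalizer (Q : Set L) ≤ Subgroup.centralizer (Q : Set L) := fun x _ =>
        Subgroup.mem_centralizer_iff.2 fun q hq => by
          have hq' : (q : L) ∈ (Q : Subgroup L) := hq
          rw [show (Q : Subgroup L) = A.subgroupOf L from IsPGroup.toSylow_coe _ _] at hq'
          exact Subtype.ext (Subgroup.mem_center_iff.1 hq'.2 (x : G)).symm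
      set N := (MonoidHom.transferSylow Q hQ).ker
      have hNle : N ≤ pPrimeCore p L := Grp.le_pPrimeCore inferInstance
        ((hp.out.coprime_iff_not_dvd).2 (MonoidHom.not_dvd_card_ker_transferSylow Q hQ)).symm
      have hN : N = ⊥ := eq_bot_iff.2 (hNle.trans (le_of_eq (by
        rw [← Subgroup.map_eq_bot_iff_of_injective _ (f := L.subtype) Subtype.val_injective,
          Grp.pPrimeCore_map_eq L, show pPrimeCore p G = ⊥ from hO, bot_inf_eq])))
      have hQtop : A.subgroupOf L = ⊤ := by
        have := (MonoidHom.ker_transferSylow_isComplement' Q hQ).sup_eq_top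
        rw [show (MonoidHom.transferSylow Q hQ).ker = ⊥ from hN, bot_sup_eq,
          show (Q : Subgroup L) = A.subgroupOf L from IsPGroup.toSylow_coe _ _] at this
        exact this
      have hLA : L ≤ A := Subgroup.subgroupOf_eq_top.1 hQtop
      refine eq_bot_iff.2 fun x hx => ?_
      obtain ⟨x, rfl⟩ := QuotientGroup.mk'_surjective A x
      exact Subgroup.mem_bot.2 ((QuotientGroup.eq_one_iff x).2 (hLA hx))
    push Not at hc
    exfalso
    obtain ⟨P, hHP⟩ := hHp.exists_le_sylow
    have hPN := ((S3021.result H hHp hcl).2 P hHP).1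
    haveI : (H.subgroupOf (P : Subgroup G)).Normal := Subgroup.normal_subgroupOf_of_le_normalizer hPN
    haveI : Group.IsNilpotent (P : Subgroup G) := P.isPGroup'.isNilpotent
    have hne : H.subgroupOf (P : Subgroup G) ≠ ⊥ := fun h => hHbot (by
      rw [← Subgroup.map_subgroupOf_eq_of_le hHP, h, Subgroup.map_bot])
    have hI := Grp.inf_center_ne_bot (H.subgroupOf (P : Subgroup G)) hne
    obtain ⟨⟨z, hzH, hzc⟩, hz1'⟩ := (Subgroup.ne_bot_iff_exists_ne_one).1 hI
    have hz1 : (z : G) ≠ 1 := fun h => hz1' (Subtype.ext (Subtype.ext h))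
    obtain ⟨M, hM⟩ := Cfsg.Agent.Char.exists_isPModular p hp.out
    have hval : ∀ χ ∈ principalBlock M G, ∀ g : G, ∀ k ∈ core p H g, ∀ a ∈ H, a ≠ 1 →
        (χ : G → ℂ) (k * a) = (χ : G → ℂ) a := fun χ hχ g k hk a ha ha1 =>
      value_eq hM hHp hab hcl hc hih hχ hk ha ha1
    have hcom : ∀ (w : G), w ∈ (P : Subgroup G) → (∀ s ∈ (P : Subgroup G), Commute s w) →
        (P : Subgroup G) ≤ Subgroup.centralizer ({w} : Set G) := fun w _ hw s hs =>
      Subgroup.mem_centralizer_singleton_iff.2 (hw s hs).eq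
    -- `H` is a Sylow subgroup
    have hPH : (P : Subgroup G) = H := by
      by_contra hPH
      exact moment_contra hM hHp hab hcl hgen hval hp2 hzH hz1 hHP hPN
        (hcom _ z.2 fun s hs => congrArg Subtype.val (Subgroup.mem_center_iff.1 hzc ⟨s, hs⟩))
        (Or.inr hPH)
    have hcomm : ∀ a ∈ H, ∀ b ∈ H, a * b = b * a := fun a ha b hb =>
      congrArg Subtype.val (hab.is_comm.comm (⟨a, ha⟩ : H) ⟨b, hb⟩)
    have hfix : ∀ a ∈ H, ∀ b ∈ H, IsConj a b → b = a := by
      intro a ha b hb hconj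
      by_cases ha1 : a = 1
      · subst ha1; exact isConj_one_right.1 hconj
      by_contra hba
      refine moment_contra hM hHp hab hcl hgen hval hp2 ha ha1 hHP hPN
        (hcom _ (hHP ha) fun s hs => hcomm s (hPH ▸ hs) a ha) (Or.inl ⟨b, hb, hconj, hba⟩)
    have hQ : Subgroup.normalizer (P : Set G) ≤ Subgroup.centralizer (P : Set G) := by
      intro x hx
      refine Subgroup.mem_centralizer_iff.2 fun a ha => ?_
      have ha' : a ∈ H := hPH ▸ ha
      have hb' : x * a * x⁻¹ ∈ H := by
        have := (Subgroup.mem_normalizer_iff.1 hx a).1 ha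
        rw [← hPH]; exact this
      have h1 := hfix a ha' _ hb' (isConj_iff.2 ⟨x, rfl⟩)
      exact (mul_inv_eq_iff_eq_mul.1 h1).symm
    set N := (MonoidHom.transferSylow P hQ).ker
    have hN : N = ⊥ := eq_bot_iff.2 ((Grp.le_pPrimeCore inferInstance
      ((hp.out.coprime_iff_not_dvd).2 (MonoidHom.not_dvd_card_ker_transferSylow P hQ)).symm).trans
        hO.le)
    have hPtop : (P : Subgroup G) = ⊤ := by
      have := (MonoidHom.ker_transferSylow_isComplement' P hQ).sup_eq_top
      rwa [show (MonoidHom.transferSylow P hQ).ker = ⊥ from hN, bot_sup_eq] at this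
    obtain ⟨a, ha, ha1⟩ : ∃ a ∈ H, a ≠ 1 := ⟨_, hzH, hz1⟩
    exact hc a ha ha1 (Subgroup.mem_center_iff.2 fun w =>
      hcomm w (by rw [← hPH, hPtop]; exact Subgroup.mem_top w) a ha)

end Cfsg.Agent.ExtClosedP
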