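import Cfsg.Agent.Lib.Invol.ExtClosedOdd.Basic
import Cfsg.Agent.Lib.Invol.ExtClosedPos
import Cfsg.Agent.Lib.Invol.ZStar
import Cfsg.Agent.Lib.Block.SuzukiIdentity

/-!
# The third moment of the principal block on an extremely closed abelian p-subgroup

If the conjugates of `H` generate the group, an element of `H` centralized by a Sylow
p-subgroup containing `H` has no other conjugate in `H`, and `H` is a Sylow subgroup.
-/

open scoped ComplexConjugate

set_option linter.unusedSectionVars false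
set_option linter.style.haveILetI false

namespace Cfsg.Agent.ExtClosedP

open Cfsg Cfsg.Agent.Block

universe u

open ExtClosed (mul_sum_le_of_le)

variable {G : Type u} [Group G] [Finite G] {p : ℕ} [hp : Fact p.Prime] {M : Ideal AlgInt} {H : Subgroup G}

theorem sum_mul_self (H : Subgroup G) [Fintype H] (F : G → ℂ) :
    ∑ a : H, ∑ b : H, F ((a : G) * (b : G)) = (Nat.card H : ℂ) * ∑ a : H, F a := by
  rw [Finset.sum_congr rfl fun a _ => Fintype.sum_equiv (Equiv.mulLeft a)
    (fun b : H => F ((a : G) * (b : G))) (fun b : H => F b) (fun b => by simp),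
    Finset.sum_const, Finset.card_univ, nsmul_eq_mul, Nat.card_eq_fintype_card]

theorem orbit_card_not_dvd (hHp : IsPGroup p H) (hab : IsMulCommutative H) (hcl : IsExtremelyClosed H)
    [Fintype H] {z : G} (hzH : z ∈ H) {P : Sylow p G}
    (hPN : (P : Subgroup G) ≤ Subgroup.normalizer (H : Set G))
    (hPz : (P : Subgroup G) ≤ Subgroup.centralizer ({z} : Set G))
    [DecidablePred fun a : H => IsConj z (a : G)] :
    ¬ p ∣ (Finset.univ.filter fun a : H => IsConj z (a : G)).card := by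
  classical
    set N := Subgroup.normalizer (H : Set G) with hN
  set St := (Subgroup.centralizer ({z} : Set G)).subgroupOf N with hSt
  have hwell : ∀ a b : N, QuotientGroup.leftRel St a b →
      (a : G) * z * (a : G)⁻¹ = (b : G) * z * (b : G)⁻¹ := by
    intro a b hr
    rw [QuotientGroup.leftRel_apply, hSt, Subgroup.mem_subgroupOf,
      Subgroup.mem_centralizer_singleton_iff] at hr
    simp only [Subgroup.coe_mul, Subgroup.coe_inv] at hr
    calc (a : G) * z * (a : G)⁻¹ = (a : G) * (z * ((a : G)⁻¹ * b)) * (b : G)⁻¹ := by group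
      _ = (a : G) * ((a : G)⁻¹ * b * z) * (b : G)⁻¹ := by rw [hr]
      _ = _ := by group
  let f : N ⧸ St → {a : H // IsConj z (a : G)} := Quotient.lift
    (fun a : N => ⟨⟨(a : G) * z * (a : G)⁻¹, (Subgroup.mem_normalizer_iff.1 a.2 z).1 hzH⟩,
      isConj_iff.2 ⟨a, rfl⟩⟩)
    (fun a b hr => Subtype.ext (Subtype.ext (hwell a b hr)))
  have hf : Function.Bijective f := by
    constructor
    · rintro ⟨a⟩ ⟨b⟩ he
      refine Quotient.sound (?_ : QuotientGroup.leftRel St a b)
      have he' : (a : G) * z * (a : G)⁻¹ = (b : G) * z * (b : G)⁻¹ :=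
        congrArg (fun c : {a : H // IsConj z (a : G)} => ((c : H) : G)) he
      rw [QuotientGroup.leftRel_apply, hSt, Subgroup.mem_subgroupOf,
        Subgroup.mem_centralizer_singleton_iff]
      simp only [Subgroup.coe_mul, Subgroup.coe_inv]
      calc (a : G)⁻¹ * b * z = (a : G)⁻¹ * ((b : G) * z * (b : G)⁻¹) * b := by group
        _ = (a : G)⁻¹ * ((a : G) * z * (a : G)⁻¹) * b := by rw [he']
        _ = _ := by group
    · rintro ⟨⟨a, ha⟩, hc⟩
      obtain ⟨g, hg⟩ := isConj_iff.1 hc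
      obtain ⟨n, hn, e⟩ := exists_fusion hHp hab hcl hzH ha hg
      exact ⟨QuotientGroup.mk ⟨n, hn⟩, Subtype.ext (Subtype.ext e)⟩
  have hcard : (Finset.univ.filter fun a : H => IsConj z (a : G)).card = St.index := by
    rw [Subgroup.index, Nat.card_congr (Equiv.ofBijective f hf), Nat.card_eq_fintype_card,
      Fintype.card_subtype]
  rw [hcard]
  have hPSt : Nat.card (P : Subgroup G) ∣ Nat.card St := by
    rw [← Nat.card_congr (Subgroup.subgroupOfEquivOfLe hPN).toEquiv]
    exact Subgroup.card_dvd_of_le fun x hx => hPz hx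
  intro h2
  have h3 : Nat.card (P : Subgroup G) * p ∣ Nat.card G :=
    ((mul_dvd_mul hPSt h2).trans (dvd_of_eq St.card_mul_index)).trans
      (Subgroup.card_subgroup_dvd_card N)
  rw [← (P : Subgroup G).card_mul_index, Nat.mul_dvd_mul_iff_left Nat.card_pos] at h3
  exact P.not_dvd_index h3

set_option maxHeartbeats 1600000 in
/-- The key step. -/
theorem moment_contra (hM : IsPModular p M) (hHp : IsPGroup p H) (hab : IsMulCommutative H)
    (hcl : IsExtremelyClosed H)
    (hgen : ∀ K : Subgroup G, K.Normal → H ≤ K → K = ⊤)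
    (hval : ∀ χ ∈ principalBlock M G, ∀ g : G, ∀ k ∈ core p H g, ∀ a ∈ H, a ≠ 1 →
      (χ : G → ℂ) (k * a) = (χ : G → ℂ) a)
    (hp2 : p ≠ 2) {z : G} (hzH : z ∈ H) (hz1 : z ≠ 1) {P : Sylow p G} (hHP : H ≤ P)
    (hPN : (P : Subgroup G) ≤ Subgroup.normalizer (H : Set G))
    (hPz : (P : Subgroup G) ≤ Subgroup.centralizer ({z} : Set G))
    (hcase : (∃ a₀ ∈ H, IsConj z a₀ ∧ a₀ ≠ z) ∨ (P : Subgroup G) ≠ H) : False := by
  classical
  cases nonempty_fintype G
  set S := Finset.univ.filter (fun χ : IrrCharacter G => χ ∈ principalBlock M G) with hS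
  have hSmem : ∀ {χ}, χ ∈ S → χ ∈ principalBlock M G := fun h => (Finset.mem_filter.1 h).2
  set h : ℕ := Nat.card H with hh
  have hpow : ∀ {x : G}, x ∈ H → ∃ k : ℕ, orderOf x = p ^ k := fun hx => pPow_of_mem hHp hx
  -- the multiplicity of the trivial character of `H`
  have hTd : ∀ χ : IrrCharacter G, ∃ d : ℕ, (∑ a : H, (χ : G → ℂ) a) = (h : ℂ) * d := by
    intro χ
    obtain ⟨d, hd⟩ := Cfsg.Agent.Char.IsChar.classInner_nat
      (Cfsg.Agent.Char.IsChar.res (irr_isChar χ) H) (Cfsg.Agent.Char.IsChar.one (G := H))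
    refine ⟨d, ?_⟩
    rw [← hd, classInner, hh, ← mul_assoc,
      mul_inv_cancel₀ (Nat.cast_ne_zero.2 Nat.card_pos.ne'), one_mul]
    simp
  choose d hd using hTd
  set e : IrrCharacter G → ℕ := fun χ => charDegree (χ : G → ℂ) with he
  have he1 : ∀ χ : IrrCharacter G, (χ : G → ℂ) 1 = (e χ : ℂ) := fun χ => charDeg_spec' χ
  have hepos : ∀ χ, (0 : ℝ) < (e χ : ℝ) := fun χ => Nat.cast_pos.2 (charDeg_pos χ)
  set y : IrrCharacter G → ℝ := fun χ => (h : ℝ) * d χ - e χ with hy
  have hyC : ∀ χ, ((y χ : ℝ) : ℂ) = (∑ a : H, (χ : G → ℂ) a) - (χ : G → ℂ) 1 := fun χ => by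
    rw [hd, he1]; simp [hy]
  have hyerase : ∀ χ, ((y χ : ℝ) : ℂ) = ∑ a ∈ Finset.univ.erase (1 : H), (χ : G → ℂ) a := fun χ => by
    rw [hyC, Finset.sum_erase_eq_sub (Finset.mem_univ _), OneMemClass.coe_one]
  -- orthogonality
  have horth : ∀ x : G, ¬ p ∣ orderOf x →
      ∑ χ ∈ S, (χ : G → ℂ) x * ((y χ : ℝ) : ℂ) = 0 := by
    intro x hx
    simp only [hyerase, Finset.mul_sum]
    rw [Finset.sum_comm]
    refine Finset.sum_eq_zero fun a ha => ?_
    have ha1 : (a : G)⁻¹ ≠ 1 := fun h1 => (Finset.mem_erase.1 ha).1 (Subtype.ext (inv_eq_one.1 h1))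
    obtain ⟨k, hk⟩ := hpow (inv_mem a.2)
    have h2 : p ∣ orderOf ((a : G)⁻¹) := by
      rcases Nat.eq_zero_or_pos k with rfl | hk0
      · rw [pow_zero, orderOf_eq_one_iff] at hk
        exact absurd hk ha1
      · rw [hk]; exact dvd_pow_self p hk0.ne'
    have := weak_orth hM (isPBlock_principalBlock (G := G)) hx h2
    rw [finsum_mem_block] at this
    rw [← this]
    refine Finset.sum_congr rfl fun χ _ => ?_
    rw [irr_apply_inv, Complex.conj_conj]
  -- pairs of conjugates
  have hR : ∀ g : G, ∃ n ∈ Subgroup.normalizer (H : Set G), ∀ a b : H,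
      ∑ χ ∈ S, (χ : G → ℂ) ((a : G) * (g * b * g⁻¹)) * ((y χ : ℝ) : ℂ) =
        ∑ χ ∈ S, (χ : G → ℂ) ((a : G) * (n * b * n⁻¹)) * ((y χ : ℝ) : ℂ) := by
    intro g
    obtain ⟨k, hk, hn⟩ := exists_conj_core hHp hab hcl g
    refine ⟨k⁻¹ * g, hn, fun a b => ?_⟩
    set b' := k⁻¹ * g * b * (k⁻¹ * g)⁻¹ with hb'
    have hb'H : b' ∈ H := (Subgroup.mem_normalizer_iff.1 hn b).1 b.2
    set k'' := ((a : G) * k * (a : G)⁻¹) * ((a : G) * b' * k⁻¹ * ((a : G) * b')⁻¹) with hk''
    have hk''K : k'' ∈ core p H g := mul_mem (conj_mem_core (le_join g a.2) hk)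
      (conj_mem_core (le_join g (mul_mem a.2 hb'H)) (inv_mem hk))
    have e1 : (a : G) * (g * b * g⁻¹) = k'' * ((a : G) * b') := by
      rw [hk'', hb']; group
    rw [e1]
    by_cases h1 : (a : G) * b' = 1
    · rw [h1, mul_one, horth _ (not_dvd_orderOf (core_odd g) hk''K),
        horth 1 (by rw [orderOf_one]; exact hp.out.not_dvd_one)]
    · exact Finset.sum_congr rfl fun χ hχ => by
        rw [hval χ (hSmem hχ) g k'' hk''K _ (mul_mem a.2 hb'H) h1]
  -- the third moment
  have hmoment : ∑ χ ∈ S, y χ * ((h : ℝ) * d χ) ^ 2 / e χ =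
      (h : ℝ) * ∑ χ ∈ S, y χ * ((h : ℝ) * d χ) := by
    have hGne : (Nat.card G : ℂ) ≠ 0 := Nat.cast_ne_zero.2 Nat.card_pos.ne'
    have hL : ∀ χ : IrrCharacter G, ∑ g : G, ∑ a : H, ∑ b : H, (χ : G → ℂ) ((a : G) * (g * b * g⁻¹)) =
        (Nat.card G : ℂ) * ((h : ℂ) * d χ) ^ 2 / (χ : G → ℂ) 1 := by
      intro χ
      rw [Finset.sum_comm, Finset.sum_congr rfl fun a _ => Finset.sum_comm]
      simp only [sum_mul_conj]
      rw [← hd, sq, Finset.sum_mul_sum, Finset.mul_sum, Finset.sum_div]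
      refine Finset.sum_congr rfl fun a _ => ?_
      rw [Finset.mul_sum, Finset.sum_div]
      exact Finset.sum_congr rfl fun b _ => by ring
    have key : ∑ χ ∈ S, (∑ g : G, ∑ a : H, ∑ b : H, (χ : G → ℂ) ((a : G) * (g * b * g⁻¹))) *
        ((y χ : ℝ) : ℂ) = (Nat.card G : ℂ) * ((h : ℂ) * ∑ χ ∈ S, ((h : ℂ) * d χ) * ((y χ : ℝ) : ℂ)) := by
      simp only [Finset.sum_mul]
      rw [Finset.sum_comm]
      have hg : ∀ g : G, ∑ χ ∈ S, ∑ a : H, ∑ b : H,
          (χ : G → ℂ) ((a : G) * (g * b * g⁻¹)) * ((y χ : ℝ) : ℂ) =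
            (h : ℂ) * ∑ χ ∈ S, ((h : ℂ) * d χ) * ((y χ : ℝ) : ℂ) := by
        intro g
        obtain ⟨n, hn, hn2⟩ := hR g
        rw [Finset.sum_comm, Finset.sum_congr rfl fun a _ => Finset.sum_comm]
        simp only [hn2]
        let φ : H → H := fun b => ⟨n * b * n⁻¹, (Subgroup.mem_normalizer_iff.1 hn b).1 b.2⟩
        have hφ : Function.Bijective φ := Finite.injective_iff_bijective.1 fun b c hbc =>
          Subtype.ext (mul_left_cancel (mul_right_cancel (congrArg Subtype.val hbc)))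
        rw [Finset.sum_congr rfl fun (a : H) _ => Fintype.sum_bijective φ hφ
          (fun b : H => ∑ χ ∈ S, (χ : G → ℂ) ((a : G) * (n * b * n⁻¹)) * ((y χ : ℝ) : ℂ))
          (fun b : H => ∑ χ ∈ S, (χ : G → ℂ) ((a : G) * (b : G)) * ((y χ : ℝ) : ℂ)) fun b => rfl,
          sum_mul_self H (fun x => ∑ χ ∈ S, (χ : G → ℂ) x * ((y χ : ℝ) : ℂ)), Finset.sum_comm]
        simp only [← Finset.sum_mul, hd]
        rfl
      rw [Finset.sum_congr rfl fun g _ => hg g, Finset.sum_const, Finset.card_univ, nsmul_eq_mul,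
        Nat.card_eq_fintype_card]
    rw [← Complex.ofReal_inj]
    refine mul_left_cancel₀ hGne ?_
    push_cast
    rw [Finset.mul_sum (a := (Nat.card G : ℂ))]
    refine Eq.trans (Finset.sum_congr rfl fun χ _ => ?_) (key.trans ?_)
    · rw [hL χ, he1]; ring
    · congr 2
      exact Finset.sum_congr rfl fun χ _ => by ring
  -- the first moment
  have hfirst : ∑ χ ∈ S, y χ * (e χ : ℝ) = 0 := by
    rw [← Complex.ofReal_inj]
    push_cast
    rw [← horth 1 (by rw [orderOf_one]; exact hp.out.not_dvd_one)]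
    exact Finset.sum_congr rfl fun χ _ => by rw [he1]; ring
  have hcube : ∑ χ ∈ S, y χ ^ 3 / e χ = ((h : ℝ) - 2) * ∑ χ ∈ S, y χ ^ 2 := by
    have h1 : ∀ χ : IrrCharacter G, y χ ^ 3 / e χ =
        y χ * ((h : ℝ) * d χ) ^ 2 / e χ - 2 * (y χ * ((h : ℝ) * d χ)) + y χ * e χ := by
      intro χ
      have := (hepos χ).ne'
      field_simp
      simp only [hy]
      ring
    have h2 : ∑ χ ∈ S, y χ ^ 2 = ∑ χ ∈ S, y χ * ((h : ℝ) * d χ) - ∑ χ ∈ S, y χ * e χ := by
      rw [← Finset.sum_sub_distrib]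
      exact Finset.sum_congr rfl fun χ _ => by simp only [hy]; ring
    simp only [h1]
    rw [Finset.sum_add_distrib, Finset.sum_sub_distrib, ← Finset.mul_sum, hmoment, h2, hfirst]
    ring
  -- the bound for nontrivial characters
  have hbound : ∀ χ ∈ S, χ ≠ trivialIrr G → ((h : ℝ) - 1) * y χ ≤ e χ := by
    intro χ hχ hχne
    have hde : d χ < e χ := by
      have hle : ∀ a : H, ((χ : G → ℂ) a).re ≤ (e χ : ℝ) := fun a =>
        (Complex.re_le_norm _).trans ((Cfsg.Agent.Char.IsChar.norm_le (irr_isChar χ) a).trans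
          (by rw [he1, Complex.norm_natCast]))
      have hsum : ∑ a : H, ((χ : G → ℂ) a).re = (h : ℝ) * d χ := by
        rw [← Complex.re_sum, hd]; simp
      by_contra hcon
      push Not at hcon
      have hall : ∀ a : H, ((χ : G → ℂ) a).re = (e χ : ℝ) := by
        intro a
        refine (Finset.sum_eq_sum_iff_of_le fun b _ => hle b).1 (le_antisymm
          (Finset.sum_le_sum fun b _ => hle b) ?_) a (Finset.mem_univ a)
        rw [hsum, Finset.sum_const, Finset.card_univ, nsmul_eq_mul, hh, Nat.card_eq_fintype_card]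
        exact mul_le_mul_of_nonneg_left (Nat.cast_le.2 hcon) (Nat.cast_nonneg _)
      have hK : H ≤ Cfsg.Agent.Char.charKer (irr_isChar χ) := fun a ha =>
        (Cfsg.Agent.Char.mem_charKer _).2 (by
          rw [he1, Cfsg.Agent.Char.eq_ofReal_of_re_eq (hall ⟨a, ha⟩) (by
            have := Cfsg.Agent.Char.IsChar.norm_le (irr_isChar χ) a
            rwa [he1, Complex.norm_natCast] at this)]
          simp)
      have htop := hgen _ (Cfsg.Agent.Char.charKer_normal _) hK
      have hconst : ∀ g : G, (χ : G → ℂ) g = (e χ : ℂ) := fun g => by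
        rw [← he1]; exact (Cfsg.Agent.Char.mem_charKer _).1 (htop ▸ Subgroup.mem_top g)
      have hn := Cfsg.Agent.Char.classInner_self_irr χ.2
      simp only [classInner, hconst, Complex.conj_natCast, Finset.sum_const, Finset.card_univ,
        nsmul_eq_mul, Nat.card_eq_fintype_card] at hn
      rw [← mul_assoc, inv_mul_cancel₀ (Nat.cast_ne_zero.2 Fintype.card_pos.ne'), one_mul] at hn
      have he2 : e χ = 1 := by
        have : e χ * e χ = 1 := by exact_mod_cast hn
        exact Nat.eq_one_of_mul_eq_one_right this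
      exact hχne (Subtype.ext (funext fun g => by rw [hconst, he2, Nat.cast_one]; rfl))
    -- the averages over the pairs
    have hpair : ∀ g : G, (h : ℝ) ^ 2 * y χ ≤
        ((h : ℝ) - 1) * (∑ a : H, ∑ b : H, (χ : G → ℂ) ((a : G) * (g * b * g⁻¹))).re := by
      intro g
      set L := join H g with hL
      set K := core p H g with hK
      set B := H.map (MulAut.conj g).toMonoidHom with hB
      let ψ : K × H → L := fun p => ⟨p.1 * p.2, mul_mem (core_le g p.1.2) (le_join g p.2.2)⟩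
      have hψ : Function.Bijective ψ := by
        constructor
        · rintro ⟨k, a⟩ ⟨k', a'⟩ hpp
          obtain ⟨e1, e2⟩ := dec_unique hHp k.2 k'.2 a.2 a'.2 (congrArg Subtype.val hpp)
          exact Prod.ext (Subtype.ext e2) (Subtype.ext e1)
        · intro x
          obtain ⟨k, hk, a, ha, e1⟩ := exists_dec hHp hab hcl x.2
          exact ⟨(⟨k, hk⟩, ⟨a, ha⟩), Subtype.ext e1.symm⟩
      have hcardL : (Nat.card L : ℝ) = Nat.card K * (h : ℝ) := by
        rw [← Nat.card_congr (Equiv.ofBijective ψ hψ), Nat.card_prod, Nat.cast_mul]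
      have hSL : (∑ l : L, (χ : G → ℂ) l) =
          (∑ k : K, (χ : G → ℂ) k) + (Nat.card K : ℂ) * ((y χ : ℝ) : ℂ) := by
        rw [← Fintype.sum_bijective ψ hψ (fun p => (χ : G → ℂ) ((p.1 : G) * (p.2 : G))) _ fun p => rfl,
          Fintype.sum_prod_type, hyerase, Finset.mul_sum]
        rw [Finset.sum_comm, ← Finset.add_sum_erase _ _ (Finset.mem_univ (1 : H))]
        congr 1
        · exact Finset.sum_congr rfl fun k _ => by simp
        · refine Finset.sum_congr rfl fun a ha => ?_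
          rw [Finset.sum_congr rfl fun (k : K) _ => hval χ (hSmem hχ) g k k.2 a a.2
            fun h1 => (Finset.mem_erase.1 ha).1 (Subtype.ext h1), Finset.sum_const, Finset.card_univ,
            nsmul_eq_mul, Nat.card_eq_fintype_card]
      have i1 := mul_sum_le_of_le χ (core_le (p := p) (H := H) g) (core_le (p := p) (H := H) g)
      rw [sum_mul_self K, ← hK, ← hL, hcardL, ← Complex.ofReal_natCast, Complex.re_ofReal_mul] at i1
      have i2 := mul_sum_le_of_le χ (A := H) (B := B) (L := L) (le_join g) le_sup_right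
      have hBc : (Nat.card B : ℝ) = (h : ℝ) := by
        rw [hB, Subgroup.card_map_of_injective (MulAut.conj g).injective]
      have hSB : (∑ a : H, ∑ b : B, (χ : G → ℂ) ((a : G) * (b : G))) =
          ∑ a : H, ∑ b : H, (χ : G → ℂ) ((a : G) * (g * b * g⁻¹)) :=
        Finset.sum_congr rfl fun a _ => (Fintype.sum_equiv
          (Subgroup.equivMapOfInjective H _ (MulAut.conj g).injective).toEquiv
          (fun b : H => (χ : G → ℂ) ((a : G) * (g * b * g⁻¹)))
          (fun b : B => (χ : G → ℂ) ((a : G) * (b : G))) fun b => rfl).symm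
      rw [hSB, hBc, hcardL] at i2
      rw [hSL, Complex.add_re, ← Complex.ofReal_natCast, Complex.re_ofReal_mul, Complex.ofReal_re]
        at i1 i2
      have hKpos : (0 : ℝ) < (Nat.card K : ℝ) := Nat.cast_pos.2 Nat.card_pos
      have hhpos : (0 : ℝ) < (h : ℝ) := Nat.cast_pos.2 Nat.card_pos
      have hh1 : (1 : ℝ) ≤ (h : ℝ) := Nat.one_le_cast.2 Nat.card_pos
      set A := (∑ k : K, (χ : G → ℂ) k).re
      set X := (∑ a : H, ∑ b : H, (χ : G → ℂ) ((a : G) * (g * b * g⁻¹))).re
      have j1 : (Nat.card K : ℝ) * y χ ≤ ((h : ℝ) - 1) * A :=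
        le_of_mul_le_mul_left (a := (Nat.card K : ℝ) * Nat.card K) (by nlinarith) (mul_pos hKpos hKpos)
      have j2 : (h : ℝ) * (A + Nat.card K * y χ) ≤ Nat.card K * X :=
        le_of_mul_le_mul_left (a := (h : ℝ)) (by nlinarith) hhpos
      refine le_of_mul_le_mul_left (a := (Nat.card K : ℝ)) ?_ hKpos
      have j3 := mul_le_mul_of_nonneg_left j2 (sub_nonneg.2 hh1)
      have j4 := mul_le_mul_of_nonneg_left j1 hhpos.le
      nlinarith
    have havg : (h : ℝ) ^ 2 * y χ * e χ ≤ ((h : ℝ) - 1) * ((h : ℝ) * d χ) ^ 2 := by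
      have hs := Finset.sum_le_sum (s := Finset.univ) fun g (_ : g ∈ _) => hpair g
      simp only [← Finset.mul_sum, ← Complex.re_sum, Finset.sum_const, Finset.card_univ,
        nsmul_eq_mul] at hs
      rw [Finset.sum_comm, Finset.sum_congr rfl fun a _ => Finset.sum_comm] at hs
      simp only [sum_mul_conj] at hs
      rw [show (∑ a : H, ∑ b : H, (Nat.card G : ℂ) * (χ : G → ℂ) a * (χ : G → ℂ) b / (χ : G → ℂ) 1) =
          (((Nat.card G : ℝ) * ((h : ℝ) * d χ) ^ 2 / e χ : ℝ) : ℂ) by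
        simp only [he1, ← Finset.sum_div, ← Finset.mul_sum, ← Finset.sum_mul, hd]
        push_cast; ring, Complex.ofReal_re, ← Nat.card_eq_fintype_card] at hs
      have hG : (0 : ℝ) < (Nat.card G : ℝ) := Nat.cast_pos.2 Nat.card_pos
      have hep := hepos χ
      rw [mul_div_assoc', le_div_iff₀ hep] at hs
      refine le_of_mul_le_mul_left (a := (Nat.card G : ℝ)) ?_ hG
      linarith
    have h2 : y χ * e χ ≤ ((h : ℝ) - 1) * (d χ : ℝ) ^ 2 := by
      refine le_of_mul_le_mul_left (a := (h : ℝ) ^ 2) ?_ (pow_pos (Nat.cast_pos.2 Nat.card_pos) 2)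
      linarith
    have hde' : (d χ : ℝ) + 1 ≤ (e χ : ℝ) := by exact_mod_cast hde
    have h3 : ((h : ℝ) - 1) * d χ ≤ e χ := by
      by_contra hcon
      push Not at hcon
      simp only [hy] at h2
      nlinarith [mul_pos (sub_pos.2 hcon) (show (0 : ℝ) < e χ - d χ by linarith)]
    simp only [hy]
    nlinarith [mul_le_mul_of_nonneg_left h3 (Nat.cast_nonneg (α := ℝ) h)]
  -- the columns of `H`
  set q : G → ℕ := fun a => ∑ ψ ∈ Finset.univ.filter
    (fun ψ : IrrCharacter (Subgroup.centralizer ({a} : Set G)) =>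
      ψ ∈ principalBlock M (Subgroup.centralizer ({a} : Set G))),
    charDegree (ψ : Subgroup.centralizer ({a} : Set G) → ℂ) ^ 2 with hq
  have hqS : ∀ a : G, (∃ k : ℕ, orderOf a = p ^ k) →
      ∑ χ ∈ S, (χ : G → ℂ) a * conj ((χ : G → ℂ) a) = (q a : ℂ) := by
    intro a ha
    have h1 := principal_pElem_self hM ha
    rw [finsum_mem_block, finsum_mem_block] at h1
    rw [h1, hq]
    push_cast
    rfl
  have hqpos : ∀ a : G, 0 < q a := fun a => by
    refine Finset.sum_pos' (fun ψ _ => Nat.zero_le _)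
      ⟨trivialIrr _, Finset.mem_filter.2 ⟨Finset.mem_univ _, trivial_mem_principalBlock hM⟩,
        pow_pos (charDeg_pos _) 2⟩
  have hcol : ∀ a b : G, (∃ k : ℕ, orderOf a = p ^ k) → (∃ k : ℕ, orderOf b = p ^ k) →
      ∑ χ ∈ S, (χ : G → ℂ) b * conj ((χ : G → ℂ) a) = if IsConj a b then (q a : ℂ) else 0 := by
    intro a b ha hb
    split_ifs with hc
    · rw [← hqS a ha]
      exact Finset.sum_congr rfl fun χ _ => by
        rw [Cfsg.Agent.Char.IsClass.eq_of_isConj (irr_classFun χ) hc]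
    · have := principal_pElem_orth hM hb ha (fun hc' => hc hc'.symm)
      rwa [finsum_mem_block] at this
  set Ω : H → Finset H := fun a => Finset.univ.filter (fun b : H => IsConj (a : G) (b : G)) with hΩ
  have hint : ∀ (a : G), (∃ k : ℕ, orderOf a = p ^ k) → ∀ (K : Subgroup G) [Fintype K],
      IsPGroup p K → Nat.card K ∣
        (Finset.univ.filter fun u : K => IsConj a (u : G)).card * q a := by
    intro a ha K _ hK
    have hd' : ∀ χ : IrrCharacter G, ∃ d' : ℕ,
        (∑ u : K, (χ : G → ℂ) u) = (Nat.card K : ℂ) * d' := by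
      intro χ
      obtain ⟨d', hd'⟩ := Cfsg.Agent.Char.IsChar.classInner_nat
        (Cfsg.Agent.Char.IsChar.res (irr_isChar χ) K) (Cfsg.Agent.Char.IsChar.one (G := K))
      refine ⟨d', ?_⟩
      rw [← hd', classInner, ← mul_assoc,
        mul_inv_cancel₀ (Nat.cast_ne_zero.2 Nat.card_pos.ne'), one_mul]
      simp
    choose d' hd' using hd'
    have h1 : (Nat.card K : ℂ) * ∑ χ ∈ S, conj ((χ : G → ℂ) a) * (d' χ : ℂ) =
        (((Finset.univ.filter fun u : K => IsConj a (u : G)).card * q a : ℕ) : ℂ) := by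
      rw [Finset.mul_sum, Finset.sum_congr rfl fun (χ : IrrCharacter G) _ =>
        show (Nat.card K : ℂ) * (conj ((χ : G → ℂ) a) * (d' χ : ℂ)) =
          ∑ u : K, (χ : G → ℂ) u * conj ((χ : G → ℂ) a) by rw [← Finset.sum_mul, hd']; ring,
        Finset.sum_comm, Finset.sum_congr rfl fun (u : K) _ => hcol a u ha (pPow_of_mem hK u.2),
        ← Finset.sum_filter, Finset.sum_const, nsmul_eq_mul, Nat.cast_mul]
    refine Cfsg.Agent.Char.nat_dvd_of_isIntegral_div Nat.card_pos.ne' ?_
    rw [← h1, mul_div_cancel_left₀ _ (Nat.cast_ne_zero.2 Nat.card_pos.ne')]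
    refine IsIntegral.sum _ fun χ _ => IsIntegral.mul ?_ (isIntegral_natCast _)
    rw [← irr_apply_inv]
    exact irr_isIntegral χ _
  have hsq : (∑ χ ∈ S, y χ ^ 2) =
      ((∑ a ∈ Finset.univ.erase (1 : H), (Ω a).card * q a : ℕ) : ℝ) := by
    rw [← Complex.ofReal_inj, Complex.ofReal_natCast]
    push_cast
    have hconj : ∀ χ, ((y χ : ℝ) : ℂ) = ∑ a ∈ Finset.univ.erase (1 : H), conj ((χ : G → ℂ) a) :=
      fun χ => by rw [← Complex.conj_ofReal, hyerase, map_sum]
    rw [Finset.sum_congr rfl fun χ _ => show ((y χ : ℝ) : ℂ) ^ 2 =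
        ∑ a ∈ Finset.univ.erase (1 : H), ∑ b ∈ Finset.univ.erase (1 : H),
          (χ : G → ℂ) b * conj ((χ : G → ℂ) a) by
        rw [sq]; nth_rw 1 [hconj χ]; rw [hyerase χ, Finset.sum_mul]
        exact Finset.sum_congr rfl fun a _ => by rw [mul_comm, Finset.sum_mul],
      Finset.sum_comm]
    refine Finset.sum_congr rfl fun a ha => ?_
    have hz0 : (if IsConj (a : G) ((1 : H) : G) then (q (a : G) : ℂ) else 0) = 0 :=
      if_neg fun hc => (Finset.mem_erase.1 ha).1 (Subtype.ext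
        (by rw [OneMemClass.coe_one] at hc ⊢; exact isConj_one_left.1 hc))
    rw [Finset.sum_comm, Finset.sum_congr rfl fun (b : H) _ => hcol a b (hpow a.2) (hpow b.2),
      Finset.sum_erase (f := fun b : H => if IsConj (a : G) (b : G) then (q (a : G) : ℂ) else 0) _ hz0,
      ← Finset.sum_filter, Finset.sum_const, nsmul_eq_mul]
  have hterm : ∀ a : H, h ≤ (Ω a).card * q a := fun a =>
    Nat.le_of_dvd (Nat.mul_pos (Finset.card_pos.2 ⟨a,
      Finset.mem_filter.2 ⟨Finset.mem_univ _, IsConj.refl _⟩⟩) (hqpos _))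
      (hint a (hpow a.2) H hHp)
  set zH : H := ⟨z, hzH⟩ with hzHdef
  set n := (Ω zH).card with hn
  have hnp : ¬ p ∣ n := orbit_card_not_dvd hHp hab hcl hzH hPN hPz
  have hn1 : 1 ≤ n := Finset.card_pos.2 ⟨zH,
    Finset.mem_filter.2 ⟨Finset.mem_univ _, IsConj.refl _⟩⟩
  have hqz : h ≤ q z := by
    obtain ⟨k, hk⟩ := IsPGroup.iff_card.1 hHp
    refine Nat.le_of_dvd (hqpos z) (Nat.Coprime.dvd_of_dvd_mul_left ?_ (hint z (hpow hzH) H hHp))
    rw [hh, hk]
    exact (hp.out.coprime_iff_not_dvd.2 hnp).pow_left k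
  have hm0 : zH ∈ Finset.univ.erase (1 : H) :=
    Finset.mem_erase.2 ⟨fun h1 => hz1 (congrArg Subtype.val h1), Finset.mem_univ _⟩
  have hhlt : 3 ≤ h := by
    have h1 : 1 < h := by
      rw [hh, Nat.card_eq_fintype_card]
      exact Fintype.one_lt_card_iff.2 ⟨zH, 1, (Finset.mem_erase.1 hm0).1⟩
    obtain ⟨k, hk⟩ := IsPGroup.iff_card.1 hHp
    rw [hh, hk] at h1 ⊢
    have hk0 : k ≠ 0 := by rintro rfl; simp at h1
    have h3 : 3 ≤ p := by have := hp.out.two_le; omega
    exact h3.trans (Nat.le_self_pow hk0 p)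
  have hlower : (h + 1) * h ≤ ∑ a ∈ Finset.univ.erase (1 : H), (Ω a).card * q a := by
    have hEcard : (Finset.univ.erase (1 : H)).card = h - 1 := by
      rw [Finset.card_erase_of_mem (Finset.mem_univ _), Finset.card_univ, hh,
        Nat.card_eq_fintype_card]
    by_cases hn2 : 2 ≤ n
    · obtain ⟨b, hb, hbz⟩ := Finset.exists_mem_ne (s := Ω zH) hn2 zH
      have hbE : b ∈ (Finset.univ.erase (1 : H)).erase zH :=
        Finset.mem_erase.2 ⟨hbz, Finset.mem_erase.2 ⟨fun h1 => hz1 (by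
          have := (Finset.mem_filter.1 hb).2
          rw [h1, OneMemClass.coe_one] at this
          exact isConj_one_right.1 this.symm), Finset.mem_univ _⟩⟩
      have hbc : IsConj z (b : G) := (Finset.mem_filter.1 hb).2
      have hΩb : Ω b = Ω zH := Finset.filter_congr fun x _ =>
        ⟨fun hx => hbc.trans hx, fun hx => hbc.symm.trans hx⟩
      have hqb : q (b : G) = q z := by
        apply Nat.cast_injective (R := ℂ)
        rw [← hqS _ (hpow b.2), ← hqS _ (hpow hzH)]
        exact Finset.sum_congr rfl fun χ _ => by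
          rw [Cfsg.Agent.Char.IsClass.eq_of_isConj (irr_classFun χ) hbc]
      have h2 : 2 * h ≤ n * q z := Nat.mul_le_mul hn2 hqz
      rw [← Finset.add_sum_erase _ _ hm0, ← Finset.add_sum_erase _ _ hbE, hΩb, hqb]
      have h3 : ((Finset.univ.erase (1 : H)).erase zH |>.erase b).card • h ≤
          ∑ a ∈ ((Finset.univ.erase (1 : H)).erase zH).erase b, (Ω a).card * q a :=
        Finset.card_nsmul_le_sum _ _ _ fun a _ => hterm a
      rw [Finset.card_erase_of_mem hbE, Finset.card_erase_of_mem hm0, hEcard, smul_eq_mul] at h3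
      have h4 : (h + 1) * h = 2 * h + 2 * h + (h - 1 - 1 - 1) * h := by
        obtain ⟨j, hj'⟩ : ∃ j, h = j + 3 := ⟨h - 3, by omega⟩
        rw [hj']
        rw [show j + 3 - 1 - 1 - 1 = j by omega]; ring
      rw [h4]
      show _ ≤ n * q z + (n * q z + _)
      omega
    · have hne1 : n = 1 := by omega
      have huniq : ∀ b ∈ H, IsConj z b → b = z := fun b hb hc => by
        obtain ⟨x, hx⟩ := Finset.card_eq_one.1 hne1
        have h1 : zH ∈ Ω zH := Finset.mem_filter.2 ⟨Finset.mem_univ _, IsConj.refl _⟩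
        have h2 : (⟨b, hb⟩ : H) ∈ Ω zH := Finset.mem_filter.2 ⟨Finset.mem_univ _, hc⟩
        rw [hx, Finset.mem_singleton] at h1 h2
        exact congrArg Subtype.val (h2.trans h1.symm)
      have hPH : (P : Subgroup G) ≠ H := hcase.resolve_left fun ⟨a₀, ha₀, hc, hne⟩ =>
        hne (huniq a₀ ha₀ hc)
      have hPdvd : Nat.card (P : Subgroup G) ∣ q z := by
        have h1 := hint z (hpow hzH) (P : Subgroup G) P.isPGroup'
        have h2 : (Finset.univ.filter fun u : (P : Subgroup G) => IsConj z (u : G)).card = 1 := by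
          rw [Finset.card_eq_one]
          refine ⟨⟨z, hHP hzH⟩, Finset.eq_singleton_iff_unique_mem.2
            ⟨Finset.mem_filter.2 ⟨Finset.mem_univ _, IsConj.refl _⟩, ?_⟩⟩
          rintro ⟨u, hu⟩ hmem
          obtain ⟨g, rfl⟩ := isConj_iff.1 (Finset.mem_filter.1 hmem).2
          obtain ⟨nn, hnn, k, hk, e⟩ := conj_dec hHp hab hcl g hzH
          have hnz : nn * z * nn⁻¹ = z :=
            huniq _ ((Subgroup.mem_normalizer_iff.1 hnn z).1 hzH) (isConj_iff.2 ⟨nn, rfl⟩)
          rw [hnz] at e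
          have hkP : k ∈ (P : Subgroup G) := by
            rw [show k = g * z * g⁻¹ * z⁻¹ by rw [e]; group]
            exact mul_mem hu (inv_mem (hHP hzH))
          have hk1 : k = 1 := eq_one_of_mem_odd P.isPGroup' (core_odd g) hkP hk
          exact Subtype.ext (by show g * z * g⁻¹ = z; rw [e, hk1, one_mul])
        rwa [h2, one_mul] at h1
      have hbig : 3 * h ≤ q z := by
        refine le_trans ?_ (Nat.le_of_dvd (hqpos z) hPdvd)
        obtain ⟨i, hi⟩ := IsPGroup.iff_card.1 hHp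
        obtain ⟨j, hj⟩ := IsPGroup.iff_card.1 P.isPGroup'
        have hlt : h < Nat.card (P : Subgroup G) := by
          rw [hh]
          exact lt_of_le_of_ne (Subgroup.card_le_of_le hHP)
            fun h' => hPH (Subgroup.eq_of_le_of_card_ge hHP h'.ge).symm
        rw [hh, hi, hj] at hlt
        have hij := (Nat.pow_lt_pow_iff_right hp.out.one_lt).1 hlt
        have h3 : 3 ≤ p := by have := hp.out.two_le; omega
        rw [hh, hi, hj]
        calc 3 * p ^ i ≤ p * p ^ i := Nat.mul_le_mul_right _ h3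
          _ = p ^ (i + 1) := by ring
          _ ≤ p ^ j := Nat.pow_le_pow_right hp.out.pos hij
      rw [← Finset.add_sum_erase _ _ hm0]
      have h3 : ((Finset.univ.erase (1 : H)).erase zH).card • h ≤
          ∑ a ∈ (Finset.univ.erase (1 : H)).erase zH, (Ω a).card * q a :=
        Finset.card_nsmul_le_sum _ _ _ fun a _ => hterm a
      rw [Finset.card_erase_of_mem hm0, hEcard, smul_eq_mul] at h3
      show _ ≤ n * q z + _
      rw [hne1, one_mul]
      have h4 : (h + 1) * h = 3 * h + (h - 1 - 1) * h := by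
        obtain ⟨j, hj'⟩ : ∃ j, h = j + 3 := ⟨h - 3, by omega⟩
        rw [hj']
        rw [show j + 3 - 1 - 1 = j + 1 by omega]; ring
      rw [h4]
      omega
  -- the upper bound
  have htS : trivialIrr G ∈ S :=
    Finset.mem_filter.2 ⟨Finset.mem_univ _, trivial_mem_principalBlock hM⟩
  have hd1 : d (trivialIrr G) = 1 := by
    have h1 := hd (trivialIrr G)
    simp only [show ∀ g, (trivialIrr G : G → ℂ) g = 1 from fun _ => rfl, Finset.sum_const,
      Finset.card_univ, nsmul_eq_mul, mul_one, hh, Nat.card_eq_fintype_card] at h1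
    have : Fintype.card H = Fintype.card H * d (trivialIrr G) := by exact_mod_cast h1
    exact Nat.eq_of_mul_eq_mul_left Fintype.card_pos (by rw [← this, mul_one])
  have he0 : e (trivialIrr G) = 1 := charDeg_trivial
  set m : ℝ := (h : ℝ) - 1 with hm
  have hy0 : y (trivialIrr G) = m := by simp [hy, hd1, he0, hm]
  have hm2 : 2 ≤ m := by
    have : (3 : ℝ) ≤ (h : ℝ) := by exact_mod_cast hhlt
    simp only [hm]; linarith
  obtain ⟨χ₀, hχ₀, hneg⟩ : ∃ χ ∈ S.erase (trivialIrr G), y χ ≤ -1 := by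
    by_contra hall
    push Not at hall
    have h0 : ∀ χ ∈ S.erase (trivialIrr G), 0 ≤ y χ * e χ := fun χ hχ => by
      refine mul_nonneg ?_ (Nat.cast_nonneg _)
      have h1 : (-1 : ℤ) < (h : ℤ) * d χ - e χ := by
        have := hall χ hχ
        simp only [hy] at this
        exact_mod_cast this
      have h2 : (0 : ℤ) ≤ (h : ℤ) * d χ - e χ := by omega
      simp only [hy]
      exact_mod_cast h2
    have h1 := Finset.sum_nonneg h0
    have h2 : y (trivialIrr G) * e (trivialIrr G) +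
        ∑ χ ∈ S.erase (trivialIrr G), y χ * e χ = 0 := by
      rw [Finset.add_sum_erase _ (fun χ => y χ * (e χ : ℝ)) htS]; exact hfirst
    rw [hy0, he0, Nat.cast_one, mul_one] at h2
    linarith
  set R := ∑ χ ∈ S.erase (trivialIrr G), y χ ^ 2 with hRdef
  have hS2 : ∑ χ ∈ S, y χ ^ 2 = m ^ 2 + R := by
    rw [← Finset.add_sum_erase _ _ htS, hy0]
  have hS3 : m * ∑ χ ∈ S, y χ ^ 3 / e χ ≤ m ^ 4 + R - 1 := by
    rw [← Finset.add_sum_erase _ _ htS, hy0, he0, Nat.cast_one, div_one, mul_add, hRdef,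
      Finset.mul_sum, show m * m ^ 3 = m ^ 4 by ring, add_sub_assoc]
    refine add_le_add le_rfl ?_
    rw [← Finset.add_sum_erase _ _ hχ₀, ← Finset.add_sum_erase _ (fun χ => y χ ^ 2) hχ₀]
    have h1 : m * (y χ₀ ^ 3 / e χ₀) ≤ y χ₀ ^ 2 - 1 := by
      have h2 : y χ₀ ^ 3 ≤ 0 := by nlinarith [sq_nonneg (y χ₀)]
      have h3 : m * (y χ₀ ^ 3 / e χ₀) ≤ 0 :=
        mul_nonpos_of_nonneg_of_nonpos (by linarith) (div_nonpos_of_nonpos_of_nonneg h2 (hepos χ₀).le)
      nlinarith
    have h4 : ∑ χ ∈ (S.erase (trivialIrr G)).erase χ₀, m * (y χ ^ 3 / e χ) ≤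
        ∑ χ ∈ (S.erase (trivialIrr G)).erase χ₀, y χ ^ 2 := Finset.sum_le_sum fun χ hχ => by
      have hχ' := Finset.mem_of_mem_erase hχ
      have hb := hbound χ (Finset.mem_of_mem_erase hχ') (Finset.ne_of_mem_erase hχ')
      rw [mul_div_assoc', div_le_iff₀ (hepos χ)]
      have := mul_le_mul_of_nonneg_left hb (sq_nonneg (y χ))
      linarith
    linarith
  rw [hcube, hS2, show (h : ℝ) - 2 = m - 1 by simp only [hm]; ring] at hS3
  have hlowR : (m + 2) * (m + 1) ≤ m ^ 2 + R := by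
    rw [← hS2, hsq]
    have := (Nat.cast_le (α := ℝ)).2 hlower
    push_cast at this ⊢
    simp only [hm]
    linarith
  have h5 : 0 ≤ m ^ 2 - m - 1 := by nlinarith
  have h6 : R * (m ^ 2 - m - 1) ≤ m ^ 3 - 1 := by nlinarith
  have h7 : (3 * m + 2) * (m ^ 2 - m - 1) ≤ R * (m ^ 2 - m - 1) :=
    mul_le_mul_of_nonneg_right (by nlinarith) h5
  nlinarith [mul_nonneg (sub_nonneg.2 hm2) (sq_nonneg m), mul_nonneg (sub_nonneg.2 hm2)
    (show (0 : ℝ) ≤ m by linarith)]

end Cfsg.Agent.ExtClosedP
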